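import Mathlib

set_option autoImplicit false

/-!
# Arithmetic in `ZMod (2 ^ n)` used for quasi-dihedral / dihedral / quaternion computations
-/

namespace Cfsg.Agent.Lib.Helper9.QD

variable {n : ℕ}

/-- `M = 2^(n-1)` in `ZMod (2^n)`. -/
def Mz (n : ℕ) : ZMod (2 ^ n) := ((2 ^ (n - 1) : ℕ) : ZMod (2 ^ n))

/-- `K = 2^(n-2)` in `ZMod (2^n)`. -/
def Kz (n : ℕ) : ZMod (2 ^ n) := ((2 ^ (n - 2) : ℕ) : ZMod (2 ^ n))

theorem two_mul_Mz (hn : 1 ≤ n) : 2 * Mz n = 0 := by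
  unfold Mz
  have : (2 : ZMod (2 ^ n)) * ((2 ^ (n - 1) : ℕ) : ZMod (2 ^ n)) = ((2 ^ n : ℕ) : ZMod (2 ^ n)) := by
    have h : 2 ^ n = 2 * 2 ^ (n - 1) := by rw [← pow_succ']; congr 1; omega
    rw [h]; push_cast; ring
  rw [this, ZMod.natCast_self]

theorem two_mul_Kz (hn : 2 ≤ n) : 2 * Kz n = Mz n := by
  unfold Kz Mz
  have h : 2 ^ (n - 1) = 2 * 2 ^ (n - 2) := by rw [← pow_succ']; congr 1; omega
  rw [h]; push_cast; ring

theorem Mz_mul_Mz (hn : 2 ≤ n) : Mz n * Mz n = 0 := by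
  unfold Mz
  have h : 2 ^ (n - 1) * 2 ^ (n - 1) = 2 ^ n * 2 ^ (n - 2) := by
    rw [← pow_add, ← pow_add]; congr 1; omega
  rw [← Nat.cast_mul, h, Nat.cast_mul, ZMod.natCast_self, zero_mul]

theorem Mz_mul_Kz (hn : 3 ≤ n) : Mz n * Kz n = 0 := by
  unfold Mz Kz
  have h : 2 ^ (n - 1) * 2 ^ (n - 2) = 2 ^ n * 2 ^ (n - 3) := by
    rw [← pow_add, ← pow_add]; congr 1; omega
  rw [← Nat.cast_mul, h, Nat.cast_mul, ZMod.natCast_self, zero_mul]

theorem Mz_val (hn : 1 ≤ n) : (Mz n).val = 2 ^ (n - 1) := by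
  unfold Mz
  rw [ZMod.val_natCast]
  apply Nat.mod_eq_of_lt
  exact Nat.pow_lt_pow_right (by norm_num) (by omega)

theorem Mz_ne_zero (hn : 1 ≤ n) : Mz n ≠ 0 := by
  intro h
  have := Mz_val hn
  rw [h, ZMod.val_zero] at this
  have : 0 < 2 ^ (n - 1) := by positivity
  omega

theorem Kz_val (hn : 2 ≤ n) : (Kz n).val = 2 ^ (n - 2) := by
  unfold Kz
  rw [ZMod.val_natCast]
  apply Nat.mod_eq_of_lt
  exact Nat.pow_lt_pow_right (by norm_num) (by omega)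

/-- every element is even or odd -/
theorem even_or_odd (i : ZMod (2 ^ n)) : (∃ j, i = 2 * j) ∨ (∃ j, i = 2 * j + 1) := by
  have hi : i = ((i.val : ℕ) : ZMod (2 ^ n)) := (ZMod.natCast_zmod_val i).symm
  rcases Nat.even_or_odd' i.val with ⟨k, hk | hk⟩
  · left
    refine ⟨(k : ZMod (2 ^ n)), ?_⟩
    rw [hi, hk]; push_cast; ring
  · right
    refine ⟨(k : ZMod (2 ^ n)), ?_⟩
    rw [hi, hk]; push_cast; ring

/-- `2 a = 0` iff `a ∈ {0, M}`. -/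
theorem eq_zero_or_eq_Mz_of_two_mul (hn : 1 ≤ n) {a : ZMod (2 ^ n)} (h : 2 * a = 0) :
    a = 0 ∨ a = Mz n := by
  have ha : a = ((a.val : ℕ) : ZMod (2 ^ n)) := (ZMod.natCast_zmod_val a).symm
  obtain ⟨v, hv⟩ : ∃ v : ℕ, v = a.val := ⟨_, rfl⟩
  have hlt : v < 2 ^ n := hv ▸ ZMod.val_lt a
  have h2 : ((2 * v : ℕ) : ZMod (2 ^ n)) = 0 := by
    push_cast; rw [hv, ← ha]; exact h
  rw [ZMod.natCast_eq_zero_iff] at h2
  have hN : 2 ^ n = 2 * 2 ^ (n - 1) := by rw [← pow_succ']; congr 1; omega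
  have h2' : 2 * 2 ^ (n - 1) ∣ 2 * v := hN ▸ h2
  have hlt' : v < 2 * 2 ^ (n - 1) := hN ▸ hlt
  have h3 : 2 ^ (n - 1) ∣ v := (Nat.mul_dvd_mul_iff_left (by norm_num)).mp h2'
  obtain ⟨c, hc⟩ := h3
  have hpos : 0 < 2 ^ (n - 1) := by positivity
  have hc2 : c < 2 := by
    by_contra hge
    push Not at hge
    have : 2 * 2 ^ (n - 1) ≤ 2 ^ (n - 1) * c := by nlinarith
    omega
  interval_cases c
  · left
    rw [ha, ← hv, hc]; simp
  · right
    rw [ha, ← hv, hc, mul_one]; rfl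

/-- `4 a = 0` iff `a ∈ {0, K, M, M + K}`. -/
theorem eq_of_four_mul (hn : 2 ≤ n) {a : ZMod (2 ^ n)} (h : 4 * a = 0) :
    a = 0 ∨ a = Kz n ∨ a = Mz n ∨ a = Mz n + Kz n := by
  have h1 : 2 * (2 * a) = 0 := by rw [← h]; ring
  rcases eq_zero_or_eq_Mz_of_two_mul (by omega) h1 with h2 | h2
  · rcases eq_zero_or_eq_Mz_of_two_mul (by omega) h2 with h3 | h3
    · exact Or.inl h3
    · exact Or.inr (Or.inr (Or.inl h3))
  · have h3 : 2 * (a - Kz n) = 0 := by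
      have := two_mul_Kz hn
      linear_combination h2 - this
    rcases eq_zero_or_eq_Mz_of_two_mul (by omega) h3 with h4 | h4
    · exact Or.inr (Or.inl (sub_eq_zero.mp h4))
    · right; right; right
      linear_combination h4

/-- `M * (2 j) = 0`, `M * (2 j + 1) = M`. -/
theorem Mz_mul_even (hn : 1 ≤ n) (j : ZMod (2 ^ n)) : Mz n * (2 * j) = 0 := by
  have := two_mul_Mz hn
  linear_combination j * this

theorem Mz_mul_odd (hn : 1 ≤ n) (j : ZMod (2 ^ n)) : Mz n * (2 * j + 1) = Mz n := by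
  have := two_mul_Mz hn
  linear_combination j * this

theorem two_mul_ne_two_mul_add_one (hn : 1 ≤ n) (j j' : ZMod (2 ^ n)) : 2 * j ≠ 2 * j' + 1 := by
  intro h
  have h1 := Mz_mul_even hn j
  rw [h, Mz_mul_odd hn] at h1
  exact Mz_ne_zero hn h1

end Cfsg.Agent.Lib.Helper9.QD
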