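import Mathlib
import Cfsg.Prelude.Def_CaseTheorems
import Cfsg.Agent.Lib.Helper9.QD.Arith

set_option autoImplicit false

/-!
# Coordinates in a quasi-dihedral group
-/

namespace Cfsg.Agent.Lib.Helper9.QD

variable {S : Type*} [Group S] {n : ℕ} {x y : S}

/-- data of a quasi-dihedral group -/
structure QDData (S : Type*) [Group S] (n : ℕ) (x y : S) : Prop where
  hn : 3 ≤ n
  card : Nat.card S = 2 ^ (n + 1)
  ox : orderOf x = 2 ^ n
  oy : orderOf y = 2
  rel : y * x * y⁻¹ = x ^ (2 ^ (n - 1) - 1)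

theorem exists_qdData (hS : Cfsg.IsQuasiDihedral S) : ∃ (n : ℕ) (x y : S), QDData S n x y := by
  obtain ⟨n, hn, hc, x, y, hx, hy, hr⟩ := hS
  exact ⟨n, x, y, ⟨hn, hc, hx, hy, hr⟩⟩

/-- rotations -/
def R (x : S) (i : ZMod (2 ^ n)) : S := x ^ i.val

/-- "reflections" -/
def SR (x y : S) (i : ZMod (2 ^ n)) : S := x ^ i.val * y

/-- the twisting unit `ρ = M - 1` -/
def rho (n : ℕ) : ZMod (2 ^ n) := Mz n - 1

theorem rho_mul_rho (hn : 2 ≤ n) : rho n * rho n = 1 := by
  unfold rho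
  have h1 := Mz_mul_Mz hn
  have h2 := two_mul_Mz (n := n) (by omega)
  linear_combination h1 - h2

theorem one_add_rho : 1 + rho n = Mz n := by unfold rho; ring

theorem SR_def (x y : S) (i : ZMod (2 ^ n)) : SR x y i = R x i * y := rfl

namespace QDData

variable (h : QDData S n x y)
include h

theorem R_natCast (k : ℕ) : R x ((k : ℕ) : ZMod (2 ^ n)) = x ^ k := by
  unfold R
  rw [ZMod.val_natCast]
  have := pow_mod_orderOf x k
  rw [h.ox] at this
  exact this

omit h in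
theorem R_zero : R x (0 : ZMod (2 ^ n)) = 1 := by
  unfold R; rw [ZMod.val_zero, pow_zero]

theorem R_one : R x (1 : ZMod (2 ^ n)) = x := by
  have := h.R_natCast 1
  simpa using this

theorem R_add (i j : ZMod (2 ^ n)) : R x (i + j) = R x i * R x j := by
  unfold R
  rw [ZMod.val_add, ← pow_add]
  have := pow_mod_orderOf x (i.val + j.val)
  rw [h.ox] at this
  exact this

theorem R_neg (i : ZMod (2 ^ n)) : R x (-i) = (R x i)⁻¹ := by
  rw [eq_inv_iff_mul_eq_one, ← h.R_add, neg_add_cancel, R_zero]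

theorem R_sub (i j : ZMod (2 ^ n)) : R x (i - j) = R x i * (R x j)⁻¹ := by
  rw [sub_eq_add_neg, h.R_add, h.R_neg]

theorem R_eq_one {i : ZMod (2 ^ n)} : R x i = 1 ↔ i = 0 := by
  constructor
  · intro hi
    unfold R at hi
    have h1 : orderOf x ∣ i.val := orderOf_dvd_of_pow_eq_one hi
    rw [h.ox] at h1
    have h2 : i.val < 2 ^ n := ZMod.val_lt i
    have h3 : i.val = 0 := Nat.eq_zero_of_dvd_of_lt h1 h2
    exact (ZMod.val_eq_zero i).mp h3
  · rintro rfl; exact R_zero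

theorem R_inj {i j : ZMod (2 ^ n)} : R x i = R x j ↔ i = j := by
  constructor
  · intro hij
    have : R x (i - j) = 1 := by rw [h.R_sub, hij, mul_inv_cancel]
    exact sub_eq_zero.mp (h.R_eq_one.mp this)
  · rintro rfl; rfl

theorem R_comm (i j : ZMod (2 ^ n)) : R x i * R x j = R x j * R x i := by
  rw [← h.R_add, ← h.R_add, add_comm]

theorem R_pow (i : ZMod (2 ^ n)) (k : ℕ) : (R x i) ^ k = R x ((k : ZMod (2 ^ n)) * i) := by
  induction k with
  | zero => simp [R_zero]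
  | succ k ih => rw [pow_succ, ih, ← h.R_add]; congr 1; push_cast; ring

theorem y_mul_y : y * y = 1 := by
  have := pow_orderOf_eq_one y
  rw [h.oy, pow_two] at this
  exact this

theorem y_inv : y⁻¹ = y := inv_eq_of_mul_eq_one_left h.y_mul_y

theorem y_ne_one : y ≠ 1 := by
  intro hy
  have := h.oy
  rw [hy, orderOf_one] at this
  omega

theorem x_pow_rel : x ^ (2 ^ (n - 1) - 1) = R x (rho n) := by
  rw [← h.R_natCast]
  congr 1
  unfold rho Mz
  have : 1 ≤ 2 ^ (n - 1) := Nat.one_le_two_pow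
  rw [Nat.cast_sub this]
  simp

theorem y_conj_R (i : ZMod (2 ^ n)) : y * R x i * y⁻¹ = R x (rho n * i) := by
  have h1 : ∀ k : ℕ, y * x ^ k * y⁻¹ = (y * x * y⁻¹) ^ k := by
    intro k
    rw [conj_pow]
  unfold R
  rw [h1, h.rel, h.x_pow_rel]
  have := h.R_pow (rho n) i.val
  rw [this, ZMod.natCast_zmod_val, mul_comm]
  rfl

theorem y_mul_R (i : ZMod (2 ^ n)) : y * R x i = R x (rho n * i) * y := by
  rw [← h.y_conj_R, inv_mul_cancel_right]

theorem y_not_mem : y ∉ Subgroup.zpowers x := by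
  intro hy
  have hn := h.hn
  -- y commutes with x
  have hc : y * x = x * y := by
    obtain ⟨k, hk⟩ := Subgroup.mem_zpowers_iff.mp hy
    rw [← hk]
    exact ((Commute.refl x).zpow_left k).eq
  have h1 : y * R x (1 : ZMod (2 ^ n)) * y⁻¹ = R x (1 : ZMod (2 ^ n)) := by
    rw [h.R_one, hc, mul_inv_cancel_right]
  rw [h.y_conj_R, h.R_inj, mul_one] at h1
  -- rho = 1 means M = 2
  have h2 : Mz n = 2 := by
    unfold rho at h1
    linear_combination h1
  have h3 := Mz_val (n := n) (by omega)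
  rw [h2] at h3
  have h4 : (2 : ZMod (2 ^ n)).val = 2 := by
    have : (2 : ZMod (2 ^ n)) = ((2 : ℕ) : ZMod (2 ^ n)) := by norm_num
    rw [this, ZMod.val_natCast]
    apply Nat.mod_eq_of_lt
    calc 2 = 2 ^ 1 := by norm_num
      _ < 2 ^ n := Nat.pow_lt_pow_right (by norm_num) (by omega)
  rw [h4] at h3
  have h5 : 2 ^ 2 ≤ 2 ^ (n - 1) := Nat.pow_le_pow_right (by norm_num) (by omega)
  omega

theorem mem_zpowers_iff {g : S} : g ∈ Subgroup.zpowers x ↔ ∃ i : ZMod (2 ^ n), g = R x i := by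
  classical
  constructor
  · intro hg
    have hfin : IsOfFinOrder x := by
      rw [← orderOf_pos_iff, h.ox]; positivity
    rw [hfin.mem_zpowers_iff_mem_range_orderOf, Finset.mem_image] at hg
    obtain ⟨k, -, rfl⟩ := hg
    exact ⟨(k : ZMod (2 ^ n)), (h.R_natCast k).symm⟩
  · rintro ⟨i, rfl⟩
    exact Subgroup.pow_mem _ (Subgroup.mem_zpowers x) _

theorem R_mem (i : ZMod (2 ^ n)) : R x i ∈ Subgroup.zpowers x := h.mem_zpowers_iff.mpr ⟨i, rfl⟩

theorem card_zpowers : Nat.card (Subgroup.zpowers x) = 2 ^ n := by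
  rw [Nat.card_zpowers, h.ox]

theorem index_zpowers : (Subgroup.zpowers x).index = 2 := by
  have h1 := (Subgroup.zpowers x).card_mul_index
  rw [h.card_zpowers, h.card, pow_succ] at h1
  exact Nat.eq_of_mul_eq_mul_left (by positivity) h1

theorem cases (g : S) : (∃ i : ZMod (2 ^ n), g = R x i) ∨ (∃ i : ZMod (2 ^ n), g = SR x y i) := by
  by_cases hg : g ∈ Subgroup.zpowers x
  · exact Or.inl (h.mem_zpowers_iff.mp hg)
  · right
    have h1 : g * y ∈ Subgroup.zpowers x := by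
      rw [Subgroup.mul_mem_iff_of_index_two h.index_zpowers]
      exact ⟨fun h' => absurd h' hg, fun h' => absurd h' h.y_not_mem⟩
    obtain ⟨i, hi⟩ := h.mem_zpowers_iff.mp h1
    refine ⟨i, ?_⟩
    rw [SR_def, ← hi, mul_assoc, h.y_mul_y, mul_one]

theorem SR_not_mem (i : ZMod (2 ^ n)) : SR x y i ∉ Subgroup.zpowers x := by
  intro hm
  rw [SR_def] at hm
  have := (Subgroup.mul_mem_cancel_left _ (h.R_mem i)).mp hm
  exact h.y_not_mem this

theorem R_ne_SR (i j : ZMod (2 ^ n)) : R x i ≠ SR x y j := by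
  intro he
  exact h.SR_not_mem j (he ▸ h.R_mem i)

theorem SR_inj {i j : ZMod (2 ^ n)} : SR x y i = SR x y j ↔ i = j := by
  rw [SR_def, SR_def, mul_left_inj, h.R_inj]

theorem R_mul_SR (i j : ZMod (2 ^ n)) : R x i * SR x y j = SR x y (i + j) := by
  rw [SR_def, SR_def, h.R_add, mul_assoc]

theorem SR_mul_R (i j : ZMod (2 ^ n)) : SR x y i * R x j = SR x y (i + rho n * j) := by
  rw [SR_def, SR_def, mul_assoc, h.y_mul_R, h.R_add, mul_assoc]

theorem SR_mul_SR (i j : ZMod (2 ^ n)) : SR x y i * SR x y j = R x (i + rho n * j) := by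
  rw [SR_def x y j, ← mul_assoc, h.SR_mul_R, SR_def, mul_assoc, h.y_mul_y, mul_one]

theorem SR_inv (i : ZMod (2 ^ n)) : (SR x y i)⁻¹ = SR x y (-(rho n * i)) := by
  rw [inv_eq_iff_mul_eq_one, h.SR_mul_SR]
  have hr := rho_mul_rho (n := n) (by have := h.hn; omega)
  have : i + rho n * -(rho n * i) = 0 := by linear_combination (-i) * hr
  rw [this, R_zero]

omit h in
theorem SR_zero : SR x y (0 : ZMod (2 ^ n)) = y := by
  rw [SR_def, R_zero, one_mul]

theorem SR_ne_one (i : ZMod (2 ^ n)) : SR x y i ≠ 1 := by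
  rw [← R_zero]
  exact (h.R_ne_SR 0 i).symm

end QDData

end Cfsg.Agent.Lib.Helper9.QD
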