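import Mathlib
import Cfsg.Agent.Lib.Helper9.QD.Basic

set_option autoImplicit false

/-!
# Conjugation formulas, orders of elements in a quasi-dihedral group
-/

namespace Cfsg.Agent.Lib.Helper9.QD

variable {S : Type*} [Group S] {n : ℕ} {x y : S}

/-- `M * i` is `0` or `M` -/
theorem Mz_mul_cases (hn : 1 ≤ n) (i : ZMod (2 ^ n)) : Mz n * i = 0 ∨ Mz n * i = Mz n := by
  rcases even_or_odd i with ⟨j, rfl⟩ | ⟨j, rfl⟩
  · exact Or.inl (Mz_mul_even hn j)
  · exact Or.inr (Mz_mul_odd hn j)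

theorem Mz_mul_eq_zero_iff (hn : 1 ≤ n) (i : ZMod (2 ^ n)) : Mz n * i = 0 ↔ ∃ j, i = 2 * j := by
  constructor
  · intro hi
    rcases even_or_odd i with ⟨j, rfl⟩ | ⟨j, rfl⟩
    · exact ⟨j, rfl⟩
    · rw [Mz_mul_odd hn] at hi
      exact absurd hi (Mz_ne_zero hn)
  · rintro ⟨j, rfl⟩
    exact Mz_mul_even hn j

theorem Mz_mul_eq_Mz_iff (hn : 1 ≤ n) (i : ZMod (2 ^ n)) : Mz n * i = Mz n ↔ ∃ j, i = 2 * j + 1 := by
  constructor
  · intro hi
    rcases even_or_odd i with ⟨j, rfl⟩ | ⟨j, rfl⟩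
    · rw [Mz_mul_even hn] at hi
      exact absurd hi.symm (Mz_ne_zero hn)
    · exact ⟨j, rfl⟩
  · rintro ⟨j, rfl⟩
    exact Mz_mul_odd hn j

/-- the unit `u = 1 + K` with `(2 - M) u = 2` -/
theorem two_sub_Mz_mul (hn : 3 ≤ n) : (2 - Mz n) * (1 + Kz n) = 2 := by
  have h1 := two_mul_Kz (n := n) (by omega)
  have h2 := Mz_mul_Kz hn
  linear_combination h1 - h2

theorem Mz_mul_rho (hn : 2 ≤ n) : Mz n * rho n = Mz n := by
  unfold rho
  have h1 := Mz_mul_Mz hn
  have h2 := two_mul_Mz (n := n) (by omega)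
  linear_combination h1 - h2

theorem one_sub_rho : 1 - rho n = 2 - Mz n := by unfold rho; ring

theorem neg_Mz (hn : 1 ≤ n) : - Mz n = Mz n := by
  have h2 := two_mul_Mz (n := n) hn
  linear_combination -h2

theorem orderOf_eq_four_iff {G : Type*} [Group G] (g : G) :
    orderOf g = 4 ↔ g ^ 4 = 1 ∧ g ^ 2 ≠ 1 := by
  constructor
  · intro hg
    refine ⟨by rw [← hg]; exact pow_orderOf_eq_one g, ?_⟩
    intro h2
    have := orderOf_dvd_of_pow_eq_one h2
    rw [hg] at this
    omega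
  · rintro ⟨h4, h2⟩
    have := orderOf_eq_prime_pow (p := 2) (n := 1) (x := g) (by simpa using h2) (by simpa using h4)
    simpa using this

theorem orderOf_eq_two_iff' {G : Type*} [Group G] (g : G) :
    orderOf g = 2 ↔ g * g = 1 ∧ g ≠ 1 := by
  rw [orderOf_eq_prime_iff, pow_two]

namespace QDData

variable (h : QDData S n x y)
include h

theorem n1 : 1 ≤ n := by have := h.hn; omega
theorem n2 : 2 ≤ n := by have := h.hn; omega

theorem SR_mul_self (i : ZMod (2 ^ n)) : SR x y i * SR x y i = R x (Mz n * i) := by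
  rw [h.SR_mul_SR]
  congr 1
  unfold rho; ring

theorem conj_R_SR (a i : ZMod (2 ^ n)) :
    R x a * SR x y i * (R x a)⁻¹ = SR x y (i + (2 - Mz n) * a) := by
  rw [h.R_mul_SR, ← h.R_neg, h.SR_mul_R]
  congr 1
  unfold rho; ring

theorem conj_SR_R (j i : ZMod (2 ^ n)) :
    SR x y j * R x i * (SR x y j)⁻¹ = R x (rho n * i) := by
  rw [h.SR_mul_R, h.SR_inv, h.SR_mul_SR]
  congr 1
  have hr := rho_mul_rho (n := n) h.n2
  linear_combination (-j) * hr

theorem conj_SR_SR (j i : ZMod (2 ^ n)) :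
    SR x y j * SR x y i * (SR x y j)⁻¹ = SR x y (rho n * i + (2 - Mz n) * j) := by
  rw [h.SR_mul_SR, h.SR_inv, h.R_mul_SR]
  congr 1
  unfold rho; ring

theorem conj_R_R (a i : ZMod (2 ^ n)) : R x a * R x i * (R x a)⁻¹ = R x i := by
  rw [h.R_comm, mul_inv_cancel_right]

/-- conjugating by `R ((1+K) j)` adds `2 j` to the index of a reflection -/
theorem conj_unit_SR (i j : ZMod (2 ^ n)) :
    R x ((1 + Kz n) * j) * SR x y i * (R x ((1 + Kz n) * j))⁻¹ = SR x y (i + 2 * j) := by
  rw [h.conj_R_SR]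
  congr 1
  have := two_sub_Mz_mul h.hn
  linear_combination j * this

/-- the central involution -/
theorem z_central (g : S) : g * R x (Mz n) * g⁻¹ = R x (Mz n) := by
  rcases h.cases g with ⟨a, rfl⟩ | ⟨j, rfl⟩
  · exact h.conj_R_R a _
  · rw [h.conj_SR_R]
    congr 1
    rw [mul_comm]
    exact Mz_mul_rho h.n2

theorem z_comm (g : S) : g * R x (Mz n) = R x (Mz n) * g := by
  have := h.z_central g
  rw [← this, inv_mul_cancel_right, this]

theorem orderOf_R_eq_two {i : ZMod (2 ^ n)} : orderOf (R x i) = 2 ↔ i = Mz n := by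
  rw [orderOf_eq_two_iff', ← h.R_add, h.R_eq_one, Ne, h.R_eq_one]
  constructor
  · rintro ⟨h1, h2⟩
    have : 2 * i = 0 := by linear_combination h1
    rcases eq_zero_or_eq_Mz_of_two_mul h.n1 this with h3 | h3
    · exact absurd h3 h2
    · exact h3
  · rintro rfl
    refine ⟨?_, Mz_ne_zero h.n1⟩
    have := two_mul_Mz (n := n) h.n1
    linear_combination this

theorem orderOf_SR_eq_two {i : ZMod (2 ^ n)} : orderOf (SR x y i) = 2 ↔ Mz n * i = 0 := by
  rw [orderOf_eq_two_iff', h.SR_mul_self, h.R_eq_one]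
  exact ⟨fun h1 => h1.1, fun h1 => ⟨h1, h.SR_ne_one i⟩⟩

theorem orderOf_R_eq_four {i : ZMod (2 ^ n)} :
    orderOf (R x i) = 4 ↔ i = Kz n ∨ i = Mz n + Kz n := by
  rw [orderOf_eq_four_iff, h.R_pow, h.R_pow, h.R_eq_one, Ne, h.R_eq_one]
  constructor
  · rintro ⟨h1, h2⟩
    have h1' : 4 * i = 0 := by rw [← h1]; push_cast; ring
    rcases eq_of_four_mul h.n2 h1' with h3 | h3 | h3 | h3
    · exfalso; apply h2; rw [h3]; simp
    · exact Or.inl h3
    · exfalso; apply h2; rw [h3]
      have := two_mul_Mz (n := n) h.n1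
      push_cast; exact this
    · exact Or.inr h3
  · have hK := two_mul_Kz (n := n) h.n2
    have hM := two_mul_Mz (n := n) h.n1
    rintro (rfl | rfl)
    · refine ⟨?_, ?_⟩
      · push_cast; linear_combination 2 * hK + hM
      · push_cast; rw [hK]; exact Mz_ne_zero h.n1
    · refine ⟨?_, ?_⟩
      · push_cast; linear_combination 2 * hK + 3 * hM
      · push_cast
        have : 2 * (Mz n + Kz n) = Mz n := by linear_combination hK + hM
        rw [this]; exact Mz_ne_zero h.n1

theorem orderOf_SR_eq_four {i : ZMod (2 ^ n)} : orderOf (SR x y i) = 4 ↔ Mz n * i = Mz n := by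
  rw [orderOf_eq_four_iff]
  have e4 : (SR x y i) ^ 4 = 1 := by
    have : (SR x y i) ^ 4 = (SR x y i * SR x y i) * (SR x y i * SR x y i) := by
      rw [show (4 : ℕ) = 2 + 2 from rfl, pow_add, pow_two]
    rw [this, h.SR_mul_self, ← h.R_add, h.R_eq_one]
    have hM := two_mul_Mz (n := n) h.n1
    linear_combination i * hM
  rw [pow_two, h.SR_mul_self, Ne, h.R_eq_one]
  constructor
  · rintro ⟨-, h2⟩
    rcases Mz_mul_cases h.n1 i with h3 | h3
    · exact absurd h3 h2
    · exact h3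
  · intro h3
    refine ⟨e4, ?_⟩
    rw [h3]; exact Mz_ne_zero h.n1

/-- centralizer of a reflection -/
theorem commute_SR_iff (i : ZMod (2 ^ n)) (g : S) :
    g * SR x y i = SR x y i * g ↔
      g = 1 ∨ g = R x (Mz n) ∨ g = SR x y i ∨ g = SR x y (i + Mz n) := by
  have hM := two_mul_Mz (n := n) h.n1
  have hMM := Mz_mul_Mz (n := n) h.n2
  have hu := two_sub_Mz_mul h.hn
  constructor
  · intro hc
    have hc' : g * SR x y i * g⁻¹ = SR x y i := by rw [hc, mul_inv_cancel_right]
    rcases h.cases g with ⟨a, rfl⟩ | ⟨j, rfl⟩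
    · rw [h.conj_R_SR, h.SR_inj] at hc'
      have h1 : (2 - Mz n) * a = 0 := by linear_combination hc'
      have h2 : 2 * a = 0 := by
        have : (2 - Mz n) * (1 + Kz n) * a = 0 := by linear_combination (1 + Kz n) * h1
        rw [hu] at this; exact this
      rcases eq_zero_or_eq_Mz_of_two_mul h.n1 h2 with h3 | h3
      · left; rw [h3, R_zero]
      · right; left; rw [h3]
    · rw [h.conj_SR_SR, h.SR_inj] at hc'
      have h1 : (2 - Mz n) * (j - i) = 0 := by unfold rho at hc'; linear_combination hc'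
      have h2 : 2 * (j - i) = 0 := by
        have : (2 - Mz n) * (1 + Kz n) * (j - i) = 0 := by linear_combination (1 + Kz n) * h1
        rw [hu] at this; exact this
      rcases eq_zero_or_eq_Mz_of_two_mul h.n1 h2 with h3 | h3
      · right; right; left; rw [sub_eq_zero.mp h3]
      · right; right; right; congr 1; linear_combination h3
  · rintro (rfl | rfl | rfl | rfl)
    · simp
    · exact (h.z_comm _).symm
    · rfl
    · rw [h.SR_mul_SR, h.SR_mul_SR, h.R_inj]
      unfold rho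
      linear_combination hM - hMM

end QDData

end Cfsg.Agent.Lib.Helper9.QD
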