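import Mathlib
import Cfsg.Agent.Lib.Helper9.QD.Structure

set_option autoImplicit false

/-!
# Klein four-subgroups of a quasi-dihedral group
-/

namespace Cfsg.Agent.Lib.Helper9.QD

variable {S : Type*} [Group S] {n : ℕ} {x y : S}

theorem ncard_four_le {α : Type*} (a b c d : α) : ({a, b, c, d} : Set α).ncard ≤ 4 := by
  have h1 := Set.ncard_insert_le a ({b, c, d} : Set α)
  have h2 := Set.ncard_insert_le b ({c, d} : Set α)
  have h3 := Set.ncard_insert_le c ({d} : Set α)
  have h4 := Set.ncard_singleton d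
  omega

theorem mem_centralizer_singleton {G : Type*} [Group G] (a g : G) :
    g ∈ Subgroup.centralizer ({a} : Set G) ↔ g * a = a * g := by
  rw [Subgroup.mem_centralizer_iff]
  constructor
  · intro hg; exact (hg a rfl).symm
  · intro hg b hb
    rw [Set.mem_singleton_iff] at hb
    subst hb
    exact hg.symm

theorem map_conj_centralizer_singleton {G : Type*} [Group G] (s a : G) :
    (Subgroup.centralizer ({a} : Set G)).map (MulAut.conj s).toMonoidHom
      = Subgroup.centralizer ({s * a * s⁻¹} : Set G) := by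
  ext g
  rw [Subgroup.mem_map, mem_centralizer_singleton]
  constructor
  · rintro ⟨c, hc, rfl⟩
    rw [mem_centralizer_singleton] at hc
    simp only [MulEquiv.toMonoidHom_eq_coe, MonoidHom.coe_coe, MulAut.conj_apply]
    calc s * c * s⁻¹ * (s * a * s⁻¹) = s * (c * a) * s⁻¹ := by group
      _ = s * (a * c) * s⁻¹ := by rw [hc]
      _ = s * a * s⁻¹ * (s * c * s⁻¹) := by group
  · intro hg
    refine ⟨s⁻¹ * g * s, ?_, ?_⟩
    · rw [mem_centralizer_singleton]
      calc s⁻¹ * g * s * a = s⁻¹ * (g * (s * a * s⁻¹)) * s := by group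
        _ = s⁻¹ * ((s * a * s⁻¹) * g) * s := by rw [hg]
        _ = a * (s⁻¹ * g * s) := by group
    · simp only [MulEquiv.toMonoidHom_eq_coe, MonoidHom.coe_coe, MulAut.conj_apply]
      group

namespace QDData

variable (h : QDData S n x y)
include h

theorem mem_centralizer_SR (i : ZMod (2 ^ n)) (g : S) :
    g ∈ Subgroup.centralizer ({SR x y i} : Set S) ↔
      g = 1 ∨ g = R x (Mz n) ∨ g = SR x y i ∨ g = SR x y (i + Mz n) := by
  rw [mem_centralizer_singleton, h.commute_SR_iff]

theorem card_centralizer_SR_le [Finite S] (i : ZMod (2 ^ n)) :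
    Nat.card (Subgroup.centralizer ({SR x y i} : Set S)) ≤ 4 := by
  have hsub : ((Subgroup.centralizer ({SR x y i} : Set S) : Subgroup S) : Set S) ⊆
      {1, R x (Mz n), SR x y i, SR x y (i + Mz n)} := by
    intro g hg
    have := (h.mem_centralizer_SR i g).mp hg
    simpa using this
  have h1 := Set.ncard_le_ncard hsub (Set.toFinite _)
  have h2 := ncard_four_le (1 : S) (R x (Mz n)) (SR x y i) (SR x y (i + Mz n))
  rw [← Nat.card_coe_set_eq] at h1
  exact le_trans h1 h2

/-- every Klein four-subgroup is the centralizer of one of its non-central involutions -/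
theorem klein_eq [Finite S] (T : Subgroup S) (hT : IsKleinFour T) :
    ∃ i : ZMod (2 ^ n), Mz n * i = 0 ∧ T = Subgroup.centralizer ({SR x y i} : Set S) := by
  have hsq : ∀ t ∈ T, t * t = 1 := by
    intro t ht
    have h1 : (⟨t, ht⟩ : T) ^ 2 = 1 := by
      have := Monoid.pow_exponent_eq_one (⟨t, ht⟩ : T)
      rwa [hT.exponent_two] at this
    have h2 := congrArg Subtype.val h1
    simpa [pow_two] using h2
  have hcomm : ∀ s ∈ T, ∀ t ∈ T, s * t = t * s := by
    intro s hs t ht
    have := mul_comm_of_exponent_two hT.exponent_two (⟨s, hs⟩ : T) ⟨t, ht⟩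
    exact congrArg Subtype.val this
  -- T is not inside the rotations
  have hex : ∃ t ∈ T, t ∉ Subgroup.zpowers x := by
    by_contra hcon
    push Not at hcon
    have hle : T ≤ Subgroup.zpowers (R x (Mz n)) := by
      intro t ht
      obtain ⟨i, rfl⟩ := h.mem_zpowers_iff.mp (hcon t ht)
      have h1 := hsq _ ht
      rw [← h.R_add, h.R_eq_one] at h1
      have h2 : 2 * i = 0 := by linear_combination h1
      rcases eq_zero_or_eq_Mz_of_two_mul h.n1 h2 with rfl | rfl
      · rw [R_zero]; exact one_mem _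
      · exact Subgroup.mem_zpowers _
    have h1 := Subgroup.card_le_of_le hle
    rw [Nat.card_zpowers, h.orderOf_R_eq_two.mpr rfl, hT.card_four] at h1
    omega
  obtain ⟨t, ht, htx⟩ := hex
  rcases h.cases t with ⟨i, rfl⟩ | ⟨i, rfl⟩
  · exact absurd (h.R_mem i) htx
  · refine ⟨i, ?_, ?_⟩
    · have := hsq _ ht
      rwa [h.SR_mul_self, h.R_eq_one] at this
    · apply Subgroup.eq_of_le_of_card_ge
      · intro g hg
        rw [mem_centralizer_singleton]
        exact hcomm g hg _ ht
      · rw [hT.card_four]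
        exact h.card_centralizer_SR_le i

theorem klein_conj [Finite S] (T₁ T₂ : Subgroup S) (hT₁ : IsKleinFour T₁) (hT₂ : IsKleinFour T₂) :
    ∃ s : S, T₁.map (MulAut.conj s).toMonoidHom = T₂ := by
  obtain ⟨i₁, hi₁, rfl⟩ := h.klein_eq T₁ hT₁
  obtain ⟨i₂, hi₂, rfl⟩ := h.klein_eq T₂ hT₂
  obtain ⟨j₁, rfl⟩ := (Mz_mul_eq_zero_iff h.n1 _).mp hi₁
  obtain ⟨j₂, rfl⟩ := (Mz_mul_eq_zero_iff h.n1 _).mp hi₂
  refine ⟨R x ((1 + Kz n) * (j₂ - j₁)), ?_⟩
  rw [map_conj_centralizer_singleton, h.conj_unit_SR]
  congr 3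
  ring

theorem SR_add_Mz (i : ZMod (2 ^ n)) : SR x y (i + Mz n) = R x (Mz n) * SR x y i := by
  rw [h.R_mul_SR, add_comm]

theorem klein_centralizer [Finite S] (T : Subgroup S) (hT : IsKleinFour T) :
    Subgroup.centralizer (T : Set S) = T := by
  obtain ⟨i, hi, hTi⟩ := h.klein_eq T hT
  have hmem : SR x y i ∈ T := by
    rw [hTi, mem_centralizer_singleton]
  apply le_antisymm
  · have : Subgroup.centralizer (T : Set S) ≤ Subgroup.centralizer ({SR x y i} : Set S) :=
      Subgroup.centralizer_le (by simpa using hmem)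
    rwa [← hTi] at this
  · intro g hg
    rw [Subgroup.mem_centralizer_iff]
    intro t ht
    have := mul_comm_of_exponent_two hT.exponent_two (⟨t, ht⟩ : T) ⟨g, hg⟩
    exact congrArg Subtype.val this

theorem conj_mem_centralizer_SR (i a : ZMod (2 ^ n)) (ha : (2 - Mz n) * a = Mz n) (t : S)
    (ht : t ∈ Subgroup.centralizer ({SR x y i} : Set S)) :
    R x a * t * (R x a)⁻¹ ∈ Subgroup.centralizer ({SR x y i} : Set S) := by
  rw [h.mem_centralizer_SR] at ht ⊢
  have hM := two_mul_Mz (n := n) h.n1
  rcases ht with rfl | rfl | rfl | rfl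
  · left; simp
  · right; left; exact h.z_central _
  · right; right; right
    rw [h.conj_R_SR, ha]
  · right; right; left
    rw [h.conj_R_SR, ha, h.SR_inj]
    linear_combination hM

theorem klein_relIndex [Finite S] (T : Subgroup S) (hT : IsKleinFour T) :
    T.relIndex (Subgroup.normalizer (T : Set S)) = 2 := by
  obtain ⟨i, hi, hTi⟩ := h.klein_eq T hT
  have hM := two_mul_Mz (n := n) h.n1
  have hK := two_mul_Kz (n := n) h.n2
  have hMK := Mz_mul_Kz h.hn
  have haK : (2 - Mz n) * Kz n = Mz n := by linear_combination hK - hMK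
  have haK' : (2 - Mz n) * (-Kz n) = Mz n := by linear_combination -hK + hMK - hM
  have hRK : R x (Kz n) ∈ Subgroup.normalizer (T : Set S) := by
    rw [Subgroup.mem_set_normalizer_iff]
    intro t
    rw [hTi]
    constructor
    · intro ht
      exact h.conj_mem_centralizer_SR i _ haK t ht
    · intro ht
      have := h.conj_mem_centralizer_SR i _ haK' _ ht
      rw [h.R_neg] at this
      have e : (R x (Kz n))⁻¹ * (R x (Kz n) * t * (R x (Kz n))⁻¹) * (R x (Kz n))⁻¹⁻¹ = t := by group
      rwa [e] at this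
  have hRKT : R x (Kz n) ∉ T := by
    rw [hTi, h.mem_centralizer_SR]
    rintro (h1 | h1 | h1 | h1)
    · rw [h.R_eq_one] at h1
      have := Mz_ne_zero (n := n) h.n1
      rw [← hK, h1, mul_zero] at this
      exact this rfl
    · rw [h.R_inj] at h1
      have := Mz_ne_zero (n := n) h.n1
      apply this
      rw [← hK, h1]; exact hM
    · exact h.R_ne_SR _ _ h1
    · exact h.R_ne_SR _ _ h1
  rw [Subgroup.relIndex_eq_two_iff]
  refine ⟨R x (Kz n), hRK, ?_⟩
  intro b hb
  by_cases hbT : b ∈ T
  · right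
    refine ⟨hbT, ?_⟩
    intro hc
    exact hRKT ((Subgroup.mul_mem_cancel_left T hbT).mp hc)
  · left
    refine ⟨?_, hbT⟩
    -- b normalizes T so b * SR i * b⁻¹ ∈ T
    have hmem : SR x y i ∈ T := by
      rw [hTi, mem_centralizer_singleton]
    have h1 : b * SR x y i * b⁻¹ ∈ T := (Subgroup.mem_set_normalizer_iff.mp hb _).mp hmem
    rw [hTi, h.mem_centralizer_SR] at h1
    have hcase : b * SR x y i * b⁻¹ = SR x y (i + Mz n) := by
      rcases h1 with h1 | h1 | h1 | h1
      · exfalso
        have : SR x y i = 1 := by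
          have e : SR x y i = b⁻¹ * (b * SR x y i * b⁻¹) * b := by group
          rw [e, h1]; group
        exact h.SR_ne_one i this
      · exfalso
        have : SR x y i = R x (Mz n) := by
          have e : SR x y i = b⁻¹ * (b * SR x y i * b⁻¹) * b⁻¹⁻¹ := by group
          rw [e, h1, h.z_central]
        exact h.R_ne_SR _ _ this.symm
      · exfalso
        apply hbT
        rw [hTi, mem_centralizer_singleton]
        calc b * SR x y i = (b * SR x y i * b⁻¹) * b := by group
          _ = SR x y i * b := by rw [h1]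
      · exact h1
    rw [hTi, mem_centralizer_singleton]
    have h2 : R x (Kz n) * SR x y i * (R x (Kz n))⁻¹ = SR x y (i + Mz n) := by
      rw [h.conj_R_SR, haK]
    have h3 : b * SR x y (i + Mz n) * b⁻¹ = SR x y i := by
      calc b * SR x y (i + Mz n) * b⁻¹ = b * (R x (Mz n) * SR x y i) * b⁻¹ := by rw [h.SR_add_Mz]
        _ = (b * R x (Mz n) * b⁻¹) * (b * SR x y i * b⁻¹) := by group
        _ = R x (Mz n) * SR x y (i + Mz n) := by rw [h.z_central, hcase]
        _ = SR x y i := by
          rw [h.R_mul_SR, h.SR_inj]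
          linear_combination hM
    have h4 : (b * R x (Kz n)) * SR x y i * (b * R x (Kz n))⁻¹ = SR x y i := by
      have e : (b * R x (Kz n)) * SR x y i * (b * R x (Kz n))⁻¹
          = b * (R x (Kz n) * SR x y i * (R x (Kz n))⁻¹) * b⁻¹ := by group
      rw [e, h2, h3]
    calc b * R x (Kz n) * SR x y i
        = ((b * R x (Kz n)) * SR x y i * (b * R x (Kz n))⁻¹) * (b * R x (Kz n)) := by group
      _ = SR x y i * (b * R x (Kz n)) := by rw [h4]

end QDData

end Cfsg.Agent.Lib.Helper9.QD
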