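import Mathlib
import Cfsg.Agent.Lib.Helper9.QD.Klein

set_option autoImplicit false

/-!
# Quaternion subgroups of order 8 of a quasi-dihedral group
-/

namespace Cfsg.Agent.Lib.Helper9.QD

variable {S : Type*} [Group S] {n : ℕ} {x y : S}

/-- `H = 2^(n-3)` -/
def Hz (n : ℕ) : ZMod (2 ^ n) := ((2 ^ (n - 3) : ℕ) : ZMod (2 ^ n))

theorem two_mul_Hz (hn : 3 ≤ n) : 2 * Hz n = Kz n := by
  unfold Hz Kz
  have h : 2 ^ (n - 2) = 2 * 2 ^ (n - 3) := by rw [← pow_succ']; congr 1; omega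
  rw [h]; push_cast; ring

/-- generators of an abstract `Q₈` -/
theorem quaternion_two_gens {Q : Type*} [Group Q] (e : Q ≃* QuaternionGroup 2) :
    ∃ α β : Q, orderOf α = 4 ∧ orderOf β = 4 ∧ orderOf (α * β) = 4 ∧ α * β ≠ β * α := by
  refine ⟨e.symm (QuaternionGroup.a 1), e.symm (QuaternionGroup.xa 0), ?_, ?_, ?_, ?_⟩
  · rw [MulEquiv.orderOf_eq, QuaternionGroup.orderOf_a_one]
  · rw [MulEquiv.orderOf_eq, QuaternionGroup.orderOf_xa]
  · rw [← map_mul, MulEquiv.orderOf_eq, QuaternionGroup.a_mul_xa, QuaternionGroup.orderOf_xa]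
  · rw [← map_mul, ← map_mul]
    intro hc
    have := e.symm.injective hc
    rw [QuaternionGroup.a_mul_xa, QuaternionGroup.xa_mul_a] at this
    revert this
    decide

theorem card_of_equiv_quaternion {Q : Type*} [Group Q] (e : Q ≃* QuaternionGroup 2) :
    Nat.card Q = 8 := by
  rw [Nat.card_congr e.toEquiv, Nat.card_eq_fintype_card, QuaternionGroup.card]

/-- membership predicate for the quaternion group `⟨R K, SR i⟩` -/
def InQ (x y : S) (i : ZMod (2 ^ n)) (g : S) : Prop :=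
  (∃ d : ZMod (2 ^ n), 4 * d = 0 ∧ g = R x d) ∨ (∃ d : ZMod (2 ^ n), 4 * d = 0 ∧ g = SR x y (i + d))

namespace QDData

variable (h : QDData S n x y)
include h

theorem four_mul_Kz : 4 * Kz n = 0 := by
  have hK := two_mul_Kz (n := n) h.n2
  have hM := two_mul_Mz (n := n) h.n1
  linear_combination 2 * hK + hM

theorem Kz_ne_zero : Kz n ≠ 0 := by
  intro hK0
  have hK := two_mul_Kz (n := n) h.n2
  rw [hK0, mul_zero] at hK
  exact Mz_ne_zero h.n1 hK.symm

theorem two_mul_Kz_ne : 2 * Kz n ≠ 0 := by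
  rw [two_mul_Kz h.n2]; exact Mz_ne_zero h.n1

theorem neg_Kz : - Kz n = Mz n + Kz n := by
  have hK := two_mul_Kz (n := n) h.n2
  have hM := two_mul_Mz (n := n) h.n1
  linear_combination -hK - hM

theorem orderOf_RK : orderOf (R x (Kz n)) = 4 := h.orderOf_R_eq_four.mpr (Or.inl rfl)

theorem mem_zpowers_RK_iff [Finite S] (g : S) :
    g ∈ Subgroup.zpowers (R x (Kz n)) ↔ ∃ d : ZMod (2 ^ n), 4 * d = 0 ∧ g = R x d := by
  have h4 := h.four_mul_Kz
  constructor
  · intro hg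
    rw [← mem_powers_iff_mem_zpowers, Submonoid.mem_powers_iff] at hg
    obtain ⟨k, rfl⟩ := hg
    refine ⟨(k : ZMod (2 ^ n)) * Kz n, ?_, h.R_pow _ k⟩
    linear_combination (k : ZMod (2 ^ n)) * h4
  · rintro ⟨d, hd, rfl⟩
    have hK := two_mul_Kz (n := n) h.n2
    rcases eq_of_four_mul h.n2 hd with rfl | rfl | rfl | rfl
    · rw [R_zero]; exact one_mem _
    · exact Subgroup.mem_zpowers _
    · have : R x (Mz n) = (R x (Kz n)) ^ 2 := by
        rw [h.R_pow]; congr 1; push_cast; exact hK.symm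
      rw [this]; exact Subgroup.pow_mem _ (Subgroup.mem_zpowers _) _
    · have : R x (Mz n + Kz n) = (R x (Kz n)) ^ 3 := by
        rw [h.R_pow]; congr 1; push_cast; linear_combination -hK
      rw [this]; exact Subgroup.pow_mem _ (Subgroup.mem_zpowers _) _

/-- an abstract `Q₈` inside `S` contains `R K` and some `SR i` with `i` odd -/
theorem quat_contains [Finite S] (Q : Subgroup S) (e : Q ≃* QuaternionGroup 2) :
    R x (Kz n) ∈ Q ∧ ∃ i : ZMod (2 ^ n), Mz n * i = Mz n ∧ SR x y i ∈ Q := by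
  obtain ⟨α, β, hα, hβ, hαβ, hne⟩ := quaternion_two_gens e
  have hα' : orderOf (α : S) = 4 := by rw [Subgroup.orderOf_coe]; exact hα
  have hβ' : orderOf (β : S) = 4 := by rw [Subgroup.orderOf_coe]; exact hβ
  have hαβ' : orderOf ((α : S) * (β : S)) = 4 := by
    rw [← Subgroup.coe_mul, Subgroup.orderOf_coe]; exact hαβ
  have hne' : (α : S) * (β : S) ≠ (β : S) * (α : S) := by
    intro hc
    apply hne
    apply Subtype.ext
    simpa using hc
  -- `R (± K) ∈ Q` implies `R K ∈ Q`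
  have hRK : ∀ d : ZMod (2 ^ n), orderOf (R x d) = 4 → R x d ∈ Q → R x (Kz n) ∈ Q := by
    intro d hd hdQ
    rw [h.orderOf_R_eq_four] at hd
    rcases hd with rfl | rfl
    · exact hdQ
    · have : R x (Kz n) = (R x (Mz n + Kz n))⁻¹ := by
        rw [← h.R_neg, h.R_inj]
        have hK := two_mul_Kz (n := n) h.n2
        have hM := two_mul_Mz (n := n) h.n1
        linear_combination hK + hM
      rw [this]; exact Q.inv_mem hdQ
  rcases h.cases (α : S) with ⟨a, ha⟩ | ⟨i, hi⟩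
  · rcases h.cases (β : S) with ⟨b, hb⟩ | ⟨j, hj⟩
    · exfalso
      apply hne'
      rw [ha, hb, h.R_comm]
    · refine ⟨hRK a (ha ▸ hα') (ha ▸ α.2), j, ?_, hj ▸ β.2⟩
      rw [← h.orderOf_SR_eq_four, ← hj]; exact hβ'
  · have hi4 : Mz n * i = Mz n := by
      rw [← h.orderOf_SR_eq_four, ← hi]; exact hα'
    rcases h.cases (β : S) with ⟨b, hb⟩ | ⟨j, hj⟩
    · exact ⟨hRK b (hb ▸ hβ') (hb ▸ β.2), i, hi4, hi ▸ α.2⟩
    · refine ⟨?_, i, hi4, hi ▸ α.2⟩
      have hprod : (α : S) * (β : S) = R x (i + rho n * j) := by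
        rw [hi, hj, h.SR_mul_SR]
      refine hRK _ (hprod ▸ hαβ') ?_
      rw [← hprod]
      exact Q.mul_mem α.2 β.2

/-- explicit description of the elements of an abstract `Q₈` inside `S` -/
theorem quat_mem_iff [Finite S] (Q : Subgroup S) (e : Q ≃* QuaternionGroup 2) :
    ∃ i : ZMod (2 ^ n), Mz n * i = Mz n ∧ ∀ g : S, g ∈ Q ↔ InQ x y i g := by
  obtain ⟨hK, i, hi, hiQ⟩ := h.quat_contains Q e
  refine ⟨i, hi, ?_⟩
  have hcard : Nat.card Q = 8 := card_of_equiv_quaternion e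
  -- Q ⊓ H = ⟨R K⟩
  have hP : Q ⊓ Subgroup.zpowers x = Subgroup.zpowers (R x (Kz n)) := by
    symm
    apply Subgroup.eq_of_le_of_card_ge
    · rw [Subgroup.zpowers_le]
      exact ⟨hK, h.R_mem _⟩
    · rw [Nat.card_zpowers, h.orderOf_RK]
      have hle : Q ⊓ Subgroup.zpowers x ≤ Q := inf_le_left
      have hdvd := Subgroup.card_dvd_of_le hle
      rw [hcard] at hdvd
      have hne : Nat.card (Q ⊓ Subgroup.zpowers x : Subgroup S) ≠ 8 := by
        intro h8
        have : Q ⊓ Subgroup.zpowers x = Q :=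
          Subgroup.eq_of_le_of_card_ge hle (by rw [h8, hcard])
        have h1 : SR x y i ∈ Q ⊓ Subgroup.zpowers x := by rw [this]; exact hiQ
        exact h.SR_not_mem i h1.2
      have hle8 := Nat.le_of_dvd (by norm_num) hdvd
      have hpos : 0 < Nat.card (Q ⊓ Subgroup.zpowers x : Subgroup S) := Nat.card_pos
      interval_cases hc : Nat.card (Q ⊓ Subgroup.zpowers x : Subgroup S) <;> omega
  intro g
  constructor
  · intro hg
    by_cases hgx : g ∈ Subgroup.zpowers x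
    · left
      have : g ∈ Q ⊓ Subgroup.zpowers x := ⟨hg, hgx⟩
      rw [hP, h.mem_zpowers_RK_iff] at this
      exact this
    · right
      have h1 : g * (SR x y i)⁻¹ ∈ Subgroup.zpowers x := by
        rw [Subgroup.mul_mem_iff_of_index_two h.index_zpowers, inv_mem_iff]
        exact ⟨fun h' => absurd h' hgx, fun h' => absurd h' (h.SR_not_mem i)⟩
      have h2 : g * (SR x y i)⁻¹ ∈ Q ⊓ Subgroup.zpowers x :=
        ⟨Q.mul_mem hg (Q.inv_mem hiQ), h1⟩
      rw [hP, h.mem_zpowers_RK_iff] at h2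
      obtain ⟨d, hd, hgd⟩ := h2
      refine ⟨d, hd, ?_⟩
      rw [add_comm, ← h.R_mul_SR, ← hgd, inv_mul_cancel_right]
  · rintro (⟨d, hd, rfl⟩ | ⟨d, hd, rfl⟩)
    · have : R x d ∈ Subgroup.zpowers (R x (Kz n)) := (h.mem_zpowers_RK_iff _).mpr ⟨d, hd, rfl⟩
      rw [← hP] at this
      exact this.1
    · have : R x d ∈ Subgroup.zpowers (R x (Kz n)) := (h.mem_zpowers_RK_iff _).mpr ⟨d, hd, rfl⟩
      rw [← hP] at this
      rw [add_comm, ← h.R_mul_SR]
      exact Q.mul_mem this.1 hiQ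

/-- conjugating by the unit rotation moves `InQ i` to `InQ (i + 2 j)` -/
theorem inQ_conj_unit (i j : ZMod (2 ^ n)) (g : S) (hg : InQ x y i g) :
    InQ x y (i + 2 * j) (R x ((1 + Kz n) * j) * g * (R x ((1 + Kz n) * j))⁻¹) := by
  rcases hg with ⟨d, hd, rfl⟩ | ⟨d, hd, rfl⟩
  · left
    exact ⟨d, hd, h.conj_R_R _ _⟩
  · right
    refine ⟨d, hd, ?_⟩
    rw [h.conj_unit_SR]
    congr 1; ring

theorem quat_conj [Finite S] (Q₁ Q₂ : Subgroup S) (e₁ : Q₁ ≃* QuaternionGroup 2)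
    (e₂ : Q₂ ≃* QuaternionGroup 2) : ∃ s : S, Q₁.map (MulAut.conj s).toMonoidHom = Q₂ := by
  obtain ⟨i₁, hi₁, hQ₁⟩ := h.quat_mem_iff Q₁ e₁
  obtain ⟨i₂, hi₂, hQ₂⟩ := h.quat_mem_iff Q₂ e₂
  obtain ⟨j₁, rfl⟩ := (Mz_mul_eq_Mz_iff h.n1 _).mp hi₁
  obtain ⟨j₂, rfl⟩ := (Mz_mul_eq_Mz_iff h.n1 _).mp hi₂
  refine ⟨R x ((1 + Kz n) * (j₂ - j₁)), ?_⟩
  ext g
  rw [Subgroup.mem_map]
  constructor
  · rintro ⟨q, hq, rfl⟩
    simp only [MulEquiv.toMonoidHom_eq_coe, MonoidHom.coe_coe, MulAut.conj_apply]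
    rw [hQ₂]
    have := h.inQ_conj_unit _ (j₂ - j₁) q ((hQ₁ q).mp hq)
    have e : 2 * j₁ + 1 + 2 * (j₂ - j₁) = 2 * j₂ + 1 := by ring
    rwa [e] at this
  · intro hg
    refine ⟨(R x ((1 + Kz n) * (j₂ - j₁)))⁻¹ * g * R x ((1 + Kz n) * (j₂ - j₁)), ?_, ?_⟩
    · rw [hQ₁]
      have := h.inQ_conj_unit _ (j₁ - j₂) g ((hQ₂ g).mp hg)
      have e : 2 * j₂ + 1 + 2 * (j₁ - j₂) = 2 * j₁ + 1 := by ring
      rw [e] at this
      have e2 : R x ((1 + Kz n) * (j₁ - j₂)) = (R x ((1 + Kz n) * (j₂ - j₁)))⁻¹ := by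
        rw [← h.R_neg]; congr 1; ring
      rw [e2, inv_inv] at this
      exact this
    · simp only [MulEquiv.toMonoidHom_eq_coe, MonoidHom.coe_coe, MulAut.conj_apply]
      group

theorem quat_centralizer [Finite S] (Q : Subgroup S) (e : Q ≃* QuaternionGroup 2) :
    Subgroup.centralizer (Q : Set S) = (Subgroup.center Q).map Q.subtype := by
  obtain ⟨i, hi, hQ⟩ := h.quat_mem_iff Q e
  have hM := two_mul_Mz (n := n) h.n1
  have hiQ : SR x y i ∈ Q := by
    rw [hQ]; right; exact ⟨0, mul_zero _, by rw [add_zero]⟩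
  have hKQ : R x (Kz n) ∈ Q := by
    rw [hQ]; left; exact ⟨Kz n, h.four_mul_Kz, rfl⟩
  apply le_antisymm
  · intro g hg
    rw [Subgroup.mem_centralizer_iff] at hg
    have h1 : g * SR x y i = SR x y i * g := (hg _ hiQ).symm
    have h2 : g * R x (Kz n) = R x (Kz n) * g := (hg _ hKQ).symm
    rw [h.commute_SR_iff] at h1
    have hgQ : g ∈ Q := by
      rcases h1 with rfl | rfl | rfl | rfl
      · exact one_mem _
      · rw [hQ]; left; exact ⟨Mz n, by linear_combination 2 * hM, rfl⟩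
      · exact hiQ
      · rw [hQ]; right; exact ⟨Mz n, by linear_combination 2 * hM, rfl⟩
    rw [Subgroup.mem_map]
    refine ⟨⟨g, hgQ⟩, ?_, rfl⟩
    rw [Subgroup.mem_center_iff]
    rintro ⟨t, ht⟩
    apply Subtype.ext
    simp only [Subgroup.coe_mul]
    exact hg t ht
  · rintro g ⟨q, hq, rfl⟩
    have hq : q ∈ Subgroup.center Q := hq
    rw [Subgroup.mem_center_iff] at hq
    rw [Subgroup.mem_centralizer_iff]
    intro t ht
    have := hq ⟨t, ht⟩
    exact congrArg Subtype.val this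

end QDData

end Cfsg.Agent.Lib.Helper9.QD
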