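import Mathlib
import Cfsg.Agent.Lib.Helper9.QD.Structure

set_option autoImplicit false

/-!
# Conjugacy classes of involutions and of elements of order 4 in a quasi-dihedral group
-/

namespace Cfsg.Agent.Lib.Helper9.QD

variable {S : Type*} [Group S] {n : ℕ} {x y : S}

namespace QDData

variable (h : QDData S n x y)
include h

/-- conjugates of rotations are rotations -/
theorem conj_R_eq (g : S) (i : ZMod (2 ^ n)) : ∃ i' : ZMod (2 ^ n), g * R x i * g⁻¹ = R x i' := by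
  rcases h.cases g with ⟨a, rfl⟩ | ⟨j, rfl⟩
  · exact ⟨i, h.conj_R_R a i⟩
  · exact ⟨_, h.conj_SR_R j i⟩

theorem isConj_SR_even (j : ZMod (2 ^ n)) : IsConj (SR x y (0 : ZMod (2 ^ n))) (SR x y (2 * j)) := by
  rw [isConj_iff]
  refine ⟨R x ((1 + Kz n) * j), ?_⟩
  rw [h.conj_unit_SR, zero_add]

theorem isConj_SR_odd (j : ZMod (2 ^ n)) : IsConj (SR x y (1 : ZMod (2 ^ n))) (SR x y (2 * j + 1)) := by
  rw [isConj_iff]
  refine ⟨R x ((1 + Kz n) * j), ?_⟩
  rw [h.conj_unit_SR, add_comm]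

theorem isConj_R_K : IsConj (R x (Kz n)) (R x (Mz n + Kz n)) := by
  rw [isConj_iff]
  refine ⟨SR x y (0 : ZMod (2 ^ n)), ?_⟩
  rw [h.conj_SR_R, h.R_inj]
  unfold rho
  have h1 := two_mul_Kz (n := n) h.n2
  have h2 := two_mul_Mz (n := n) h.n1
  have h3 := Mz_mul_Kz h.hn
  linear_combination h3 - h1 - h2

theorem card_classes_two :
    Nat.card {C : ConjClasses S // ∃ t : S, orderOf t = 2 ∧ ConjClasses.mk t = C} = 2 := by
  rw [Nat.card_eq_two_iff]
  refine ⟨⟨ConjClasses.mk (R x (Mz n)), R x (Mz n), h.orderOf_R_eq_two.mpr rfl, rfl⟩,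
    ⟨ConjClasses.mk (SR x y (0 : ZMod (2 ^ n))), SR x y (0 : ZMod (2 ^ n)), h.orderOf_SR_eq_two.mpr (mul_zero _), rfl⟩, ?_, ?_⟩
  · intro he
    rw [Subtype.ext_iff] at he
    simp only at he
    rw [ConjClasses.mk_eq_mk_iff_isConj, isConj_iff] at he
    obtain ⟨c, hc⟩ := he
    rw [h.z_central] at hc
    exact h.R_ne_SR _ _ hc
  · rw [Set.eq_univ_iff_forall]
    rintro ⟨C, t, ht, rfl⟩
    rcases h.cases t with ⟨i, rfl⟩ | ⟨i, rfl⟩
    · left
      rw [h.orderOf_R_eq_two] at ht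
      subst ht
      rfl
    · right
      rw [h.orderOf_SR_eq_two, Mz_mul_eq_zero_iff h.n1] at ht
      obtain ⟨j, rfl⟩ := ht
      rw [Set.mem_singleton_iff, Subtype.ext_iff]
      simp only
      rw [ConjClasses.mk_eq_mk_iff_isConj]
      exact (h.isConj_SR_even j).symm

theorem card_classes_four :
    Nat.card {C : ConjClasses S // ∃ t : S, orderOf t = 4 ∧ ConjClasses.mk t = C} = 2 := by
  rw [Nat.card_eq_two_iff]
  refine ⟨⟨ConjClasses.mk (R x (Kz n)), R x (Kz n), h.orderOf_R_eq_four.mpr (Or.inl rfl), rfl⟩,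
    ⟨ConjClasses.mk (SR x y (1 : ZMod (2 ^ n))), SR x y (1 : ZMod (2 ^ n)), h.orderOf_SR_eq_four.mpr (mul_one _), rfl⟩, ?_, ?_⟩
  · intro he
    rw [Subtype.ext_iff] at he
    simp only at he
    rw [ConjClasses.mk_eq_mk_iff_isConj, isConj_iff] at he
    obtain ⟨c, hc⟩ := he
    obtain ⟨i', hi'⟩ := h.conj_R_eq c (Kz n)
    rw [hi'] at hc
    exact h.R_ne_SR _ _ hc
  · rw [Set.eq_univ_iff_forall]
    rintro ⟨C, t, ht, rfl⟩
    rcases h.cases t with ⟨i, rfl⟩ | ⟨i, rfl⟩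
    · left
      rw [h.orderOf_R_eq_four] at ht
      rcases ht with rfl | rfl
      · rfl
      · rw [Subtype.ext_iff]
        simp only
        rw [ConjClasses.mk_eq_mk_iff_isConj]
        exact h.isConj_R_K.symm
    · right
      rw [h.orderOf_SR_eq_four, Mz_mul_eq_Mz_iff h.n1] at ht
      obtain ⟨j, rfl⟩ := ht
      rw [Set.mem_singleton_iff, Subtype.ext_iff]
      simp only
      rw [ConjClasses.mk_eq_mk_iff_isConj]
      exact (h.isConj_SR_odd j).symm

end QDData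

end Cfsg.Agent.Lib.Helper9.QD
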