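import Mathlib
import Cfsg.Agent.Lib.Helper9.QD.Quat
import Cfsg.Agent.Lib.Helper9.QD.Classes

set_option autoImplicit false

/-!
# Normalizer of a quaternion subgroup of order 8 of a quasi-dihedral group
-/

namespace Cfsg.Agent.Lib.Helper9.QD

variable {S : Type*} [Group S] {n : ℕ} {x y : S}

namespace QDData

variable (h : QDData S n x y)
include h

theorem inQ_conj_R (i a : ZMod (2 ^ n)) (ha : 4 * ((2 - Mz n) * a) = 0) (g : S)
    (hg : InQ x y i g) : InQ x y i (R x a * g * (R x a)⁻¹) := by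
  rcases hg with ⟨d, hd, rfl⟩ | ⟨d, hd, rfl⟩
  · left
    exact ⟨d, hd, h.conj_R_R _ _⟩
  · right
    refine ⟨d + (2 - Mz n) * a, by linear_combination hd + ha, ?_⟩
    rw [h.conj_R_SR, add_assoc]

omit h in
theorem inQ_one (i : ZMod (2 ^ n)) : InQ x y i (1 : S) :=
  Or.inl ⟨0, mul_zero _, R_zero.symm⟩

omit h in
theorem inQ_SR (i : ZMod (2 ^ n)) : InQ x y i (SR x y i) :=
  Or.inr ⟨0, mul_zero _, by rw [add_zero]⟩

theorem inQ_RK (i : ZMod (2 ^ n)) : InQ x y i (R x (Kz n)) :=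
  Or.inl ⟨Kz n, h.four_mul_Kz, rfl⟩

theorem inQ_of_centralizer (i : ZMod (2 ^ n)) (g : S) (hg : g * SR x y i = SR x y i * g) :
    InQ x y i g := by
  have hM := two_mul_Mz (n := n) h.n1
  rw [h.commute_SR_iff] at hg
  rcases hg with rfl | rfl | rfl | rfl
  · exact inQ_one i
  · left; exact ⟨Mz n, by linear_combination 2 * hM, rfl⟩
  · exact inQ_SR i
  · right; exact ⟨Mz n, by linear_combination 2 * hM, rfl⟩

/-- criterion for membership in `Q` via the action on `SR i` -/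
theorem quat_mem_iff_of_conj (Q : Subgroup S) (i : ZMod (2 ^ n))
    (hQ : ∀ g : S, g ∈ Q ↔ InQ x y i g) (b : S) (d : ZMod (2 ^ n))
    (hb : b * SR x y i * b⁻¹ = SR x y (i + d)) : b ∈ Q ↔ 2 * d = 0 := by
  have hM := two_mul_Mz (n := n) h.n1
  have hK := two_mul_Kz (n := n) h.n2
  have hMK := Mz_mul_Kz h.hn
  constructor
  · intro hbQ
    rw [hQ] at hbQ
    rcases hbQ with ⟨d₁, hd₁, rfl⟩ | ⟨d₁, hd₁, rfl⟩
    · rw [h.conj_R_SR, h.SR_inj] at hb
      have : d = (2 - Mz n) * d₁ := by linear_combination -hb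
      rw [this]
      linear_combination hd₁ - d₁ * hM
    · rw [h.conj_SR_SR, h.SR_inj] at hb
      have : d = (2 - Mz n) * d₁ := by unfold rho at hb; linear_combination -hb
      rw [this]
      linear_combination hd₁ - d₁ * hM
  · intro hd
    rcases eq_zero_or_eq_Mz_of_two_mul h.n1 hd with rfl | rfl
    · rw [hQ]
      apply h.inQ_of_centralizer
      rw [add_zero] at hb
      calc b * SR x y i = (b * SR x y i * b⁻¹) * b := by group
        _ = SR x y i * b := by rw [hb]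
    · have h2 : R x (Kz n) * SR x y i * (R x (Kz n))⁻¹ = SR x y (i + Mz n) := by
        rw [h.conj_R_SR]; congr 1; linear_combination hK - hMK
      have h3 : ((R x (Kz n))⁻¹ * b) * SR x y i = SR x y i * ((R x (Kz n))⁻¹ * b) := by
        have e1 : b * SR x y i = SR x y (i + Mz n) * b := by
          calc b * SR x y i = (b * SR x y i * b⁻¹) * b := by group
            _ = _ := by rw [hb]
        have e2 : (R x (Kz n))⁻¹ * SR x y (i + Mz n) = SR x y i * (R x (Kz n))⁻¹ := by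
          rw [← h2]; group
        calc ((R x (Kz n))⁻¹ * b) * SR x y i = (R x (Kz n))⁻¹ * (b * SR x y i) := by group
          _ = (R x (Kz n))⁻¹ * (SR x y (i + Mz n) * b) := by rw [e1]
          _ = ((R x (Kz n))⁻¹ * SR x y (i + Mz n)) * b := by group
          _ = (SR x y i * (R x (Kz n))⁻¹) * b := by rw [e2]
          _ = _ := by group
      have h4 : (R x (Kz n))⁻¹ * b ∈ Q := by
        rw [hQ]; exact h.inQ_of_centralizer i _ h3
      have h5 : R x (Kz n) ∈ Q := by rw [hQ]; exact h.inQ_RK i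
      have : b = R x (Kz n) * ((R x (Kz n))⁻¹ * b) := by group
      rw [this]
      exact Q.mul_mem h5 h4

theorem quat_relIndex [Finite S] (Q : Subgroup S) (e : Q ≃* QuaternionGroup 2) :
    Q.relIndex (Subgroup.normalizer (Q : Set S)) = 2 := by
  obtain ⟨i, hi, hQ⟩ := h.quat_mem_iff Q e
  have hM := two_mul_Mz (n := n) h.n1
  have hK := two_mul_Kz (n := n) h.n2
  have hH := two_mul_Hz (n := n) h.hn
  have hMK := Mz_mul_Kz h.hn
  have hu := two_sub_Mz_mul h.hn
  have h4K := h.four_mul_Kz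
  obtain ⟨a₀, ha₀⟩ : ∃ a₀ : ZMod (2 ^ n), (2 - Mz n) * a₀ = Kz n := by
    refine ⟨(1 + Kz n) * Hz n, ?_⟩
    linear_combination Hz n * hu + hH
  have ha₀' : (2 - Mz n) * (-a₀) = -Kz n := by linear_combination -ha₀
  have hiQ : SR x y i ∈ Q := by rw [hQ]; exact inQ_SR i
  -- `R a₀` normalizes `Q`
  have hA : R x a₀ ∈ Subgroup.normalizer (Q : Set S) := by
    rw [Subgroup.mem_set_normalizer_iff]
    intro t
    constructor
    · intro ht
      have ht' : t ∈ Q := ht
      show R x a₀ * t * (R x a₀)⁻¹ ∈ Q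
      rw [hQ] at ht' ⊢
      exact h.inQ_conj_R i a₀ (by rw [ha₀]; exact h4K) t ht'
    · intro ht
      have ht' : R x a₀ * t * (R x a₀)⁻¹ ∈ Q := ht
      show t ∈ Q
      rw [hQ] at ht' ⊢
      have := h.inQ_conj_R i (-a₀) (by rw [ha₀']; linear_combination -h4K) _ ht'
      rw [h.R_neg] at this
      have e : (R x a₀)⁻¹ * (R x a₀ * t * (R x a₀)⁻¹) * (R x a₀)⁻¹⁻¹ = t := by group
      rwa [e] at this
  -- the action of a normalizing element on `SR i`
  have hact : ∀ b ∈ Subgroup.normalizer (Q : Set S),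
      ∃ d : ZMod (2 ^ n), 4 * d = 0 ∧ b * SR x y i * b⁻¹ = SR x y (i + d) := by
    intro b hb
    have h1 : b * SR x y i * b⁻¹ ∈ Q := (Subgroup.mem_set_normalizer_iff.mp hb _).mp hiQ
    rw [hQ] at h1
    rcases h1 with ⟨d, hd, h1⟩ | ⟨d, hd, h1⟩
    · exfalso
      obtain ⟨i', hi'⟩ := h.conj_R_eq b⁻¹ d
      have : SR x y i = R x i' := by
        rw [← hi', ← h1]; group
      exact h.R_ne_SR _ _ this.symm
    · exact ⟨d, hd, h1⟩
  rw [Subgroup.relIndex_eq_two_iff]
  refine ⟨R x a₀, hA, ?_⟩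
  intro b hb
  obtain ⟨d, hd, hbd⟩ := hact b hb
  -- the action of `b * R a₀`
  have hconjK : ∃ ε : ZMod (2 ^ n), 2 * ε * Kz n = Mz n ∧ b * R x (Kz n) * b⁻¹ = R x (ε * Kz n) := by
    rcases h.cases b with ⟨a, rfl⟩ | ⟨j, rfl⟩
    · exact ⟨1, by linear_combination hK, by rw [h.conj_R_R, one_mul]⟩
    · refine ⟨rho n, ?_, h.conj_SR_R _ _⟩
      unfold rho
      linear_combination 2 * hMK - hK - hM
  obtain ⟨ε, hε, hbK⟩ := hconjK
  have hbA : (b * R x a₀) * SR x y i * (b * R x a₀)⁻¹ = SR x y (i + (d + ε * Kz n)) := by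
    have e1 : R x a₀ * SR x y i * (R x a₀)⁻¹ = R x (Kz n) * SR x y i := by
      rw [h.conj_R_SR, ha₀, h.R_mul_SR, add_comm]
    calc (b * R x a₀) * SR x y i * (b * R x a₀)⁻¹
        = b * (R x a₀ * SR x y i * (R x a₀)⁻¹) * b⁻¹ := by group
      _ = b * (R x (Kz n) * SR x y i) * b⁻¹ := by rw [e1]
      _ = (b * R x (Kz n) * b⁻¹) * (b * SR x y i * b⁻¹) := by group
      _ = R x (ε * Kz n) * SR x y (i + d) := by rw [hbK, hbd]
      _ = _ := by rw [h.R_mul_SR]; congr 1; ring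
  have hb1 := h.quat_mem_iff_of_conj Q i hQ b d hbd
  have hb2 := h.quat_mem_iff_of_conj Q i hQ (b * R x a₀) (d + ε * Kz n) hbA
  have h2d : 2 * (2 * d) = 0 := by linear_combination hd
  have key : 2 * (d + ε * Kz n) = 2 * d + Mz n := by linear_combination hε
  rw [key] at hb2
  rcases eq_zero_or_eq_Mz_of_two_mul h.n1 h2d with h0 | h0
  · right
    refine ⟨hb1.mpr h0, ?_⟩
    rw [hb2, h0, zero_add]
    exact Mz_ne_zero h.n1
  · left
    refine ⟨?_, ?_⟩
    · rw [hb2, h0]; linear_combination hM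
    · rw [hb1, h0]; exact Mz_ne_zero h.n1

end QDData

end Cfsg.Agent.Lib.Helper9.QD
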