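import Mathlib
import Cfsg.Agent.Lib.Helper9.QD.Quat2
import Cfsg.Agent.Lib.Helper9.Wr.Klein
import Cfsg.Agent.Lib.Helper10.UniqueOrderP
import Cfsg.Agent.H26.AutTwoGroup

set_option autoImplicit false

/-!
# Subgroups of a quasi-dihedral group: Klein four, `Q₈`, or automorphism group a 2-group
-/

namespace Cfsg.Agent.Lib.Helper9.QD

variable {S : Type*} [Group S] {n : ℕ} {x y : S}

theorem coe_mem_zpowers_iff {G : Type*} [Group G] {H : Subgroup G} (r g : H) :
    g ∈ Subgroup.zpowers r ↔ (g : G) ∈ Subgroup.zpowers (r : G) := by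
  rw [Subgroup.mem_zpowers_iff, Subgroup.mem_zpowers_iff]
  constructor
  · rintro ⟨k, hk⟩
    exact ⟨k, by rw [← hk]; simp⟩
  · rintro ⟨k, hk⟩
    exact ⟨k, Subtype.ext (by simpa using hk)⟩

theorem isPGroup_mulAut_of_subsingleton {G : Type*} [Group G] [Subsingleton G] (p : ℕ) :
    IsPGroup p (MulAut G) := by
  intro α
  refine ⟨0, ?_⟩
  rw [pow_zero, pow_one]
  ext g
  exact Subsingleton.elim _ _

namespace QDData

variable (h : QDData S n x y)
include h

theorem orderOf_SR_cases (i : ZMod (2 ^ n)) : orderOf (SR x y i) = 2 ∨ orderOf (SR x y i) = 4 := by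
  rcases Mz_mul_cases h.n1 i with hi | hi
  · exact Or.inl (h.orderOf_SR_eq_two.mpr hi)
  · exact Or.inr (h.orderOf_SR_eq_four.mpr hi)

theorem exists_orderOf_eq_two_pow [Finite S] (g : S) : ∃ k, orderOf g = 2 ^ k := by
  have h1 : orderOf g ∣ Nat.card S := orderOf_dvd_natCard g
  rw [h.card] at h1
  obtain ⟨k, -, hk⟩ := (Nat.dvd_prime_pow Nat.prime_two).mp h1
  exact ⟨k, hk⟩

/-- a generator of `H ∩ ⟨x⟩` -/
theorem exists_rot_generator [Finite S] (H : Subgroup S) :
    ∃ r ∈ H ⊓ Subgroup.zpowers x, ∀ g ∈ H ⊓ Subgroup.zpowers x, g ∈ Subgroup.zpowers r := by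
  obtain ⟨⟨r, hr⟩, hmax⟩ := Finite.exists_max (fun g : ↥(H ⊓ Subgroup.zpowers x) => orderOf (g : S))
  refine ⟨r, hr, ?_⟩
  intro g hg
  have h1 : orderOf g ≤ orderOf r := hmax ⟨g, hg⟩
  obtain ⟨a, ha⟩ := h.exists_orderOf_eq_two_pow g
  obtain ⟨b, hb⟩ := h.exists_orderOf_eq_two_pow r
  have hab : a ≤ b := by
    rw [ha, hb] at h1
    exact (Nat.pow_le_pow_iff_right (by norm_num)).mp h1
  apply Cfsg.Agent.Lib.Helper10.mem_zpowers_of_orderOf_dvd' (Subgroup.zpowers x) inferInstance hg.2 hr.2
  rw [ha, hb]
  exact pow_dvd_pow 2 hab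

/-- the main trichotomy -/
theorem subgroup_trichotomy [Finite S] (H : Subgroup S) :
    IsKleinFour H ∨ Nonempty (H ≃* QuaternionGroup 2) ∨ IsPGroup 2 (MulAut H) := by
  have hM := two_mul_Mz (n := n) h.n1
  have hM0 := Mz_ne_zero (n := n) h.n1
  obtain ⟨r, hr, hgen⟩ := h.exists_rot_generator H
  obtain ⟨d, rfl⟩ := h.mem_zpowers_iff.mp hr.2
  have hrH : R x d ∈ H := hr.1
  obtain ⟨k, hk⟩ := h.exists_orderOf_eq_two_pow (R x d)
  -- rotations in H are powers of r
  have hrot : ∀ i : ZMod (2 ^ n), R x i ∈ H → R x i ∈ Subgroup.zpowers (R x d) :=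
    fun i hi => hgen _ ⟨hi, h.R_mem i⟩
  -- two reflections in H differ by a power of r
  have hrefl : ∀ i j : ZMod (2 ^ n), SR x y i ∈ H → SR x y j ∈ H →
      (SR x y i)⁻¹ * SR x y j ∈ Subgroup.zpowers (R x d) := by
    intro i j hi hj
    have h1 : (SR x y i)⁻¹ * SR x y j ∈ H := H.mul_mem (H.inv_mem hi) hj
    rw [h.SR_inv, h.SR_mul_SR] at h1 ⊢
    exact hrot _ h1
  -- the `hidx` hypothesis always holds
  have hidx : ∀ g g' : H, g ∉ Subgroup.zpowers (⟨R x d, hrH⟩ : H) →
      g' ∉ Subgroup.zpowers (⟨R x d, hrH⟩ : H) → g⁻¹ * g' ∈ Subgroup.zpowers (⟨R x d, hrH⟩ : H) := by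
    rintro ⟨g, hg⟩ ⟨g', hg'⟩ hgn hgn'
    rw [coe_mem_zpowers_iff] at hgn hgn' ⊢
    simp only [Subgroup.coe_mul, Subgroup.coe_inv] at hgn hgn' ⊢
    rcases h.cases g with ⟨i, rfl⟩ | ⟨i, rfl⟩
    · exact absurd (hrot i hg) hgn
    rcases h.cases g' with ⟨j, rfl⟩ | ⟨j, rfl⟩
    · exact absurd (hrot j hg') hgn'
    exact hrefl i j hg hg'
  by_cases hex : ∃ i : ZMod (2 ^ n), SR x y i ∈ H ∧ orderOf (SR x y i) = 2 ^ k
  · obtain ⟨i, hiH, hio⟩ := hex
    -- membership description of H
    have hmem : ∀ g : S, g ∈ H ↔ g ∈ Subgroup.zpowers (R x d) ∨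
        (SR x y i)⁻¹ * g ∈ Subgroup.zpowers (R x d) := by
      intro g
      constructor
      · intro hg
        rcases h.cases g with ⟨j, rfl⟩ | ⟨j, rfl⟩
        · exact Or.inl (hrot j hg)
        · exact Or.inr (hrefl i j hiH hg)
      · rintro (hg | hg)
        · exact (Subgroup.zpowers_le.mpr hrH) hg
        · have := (Subgroup.zpowers_le.mpr hrH) hg
          have e : g = SR x y i * ((SR x y i)⁻¹ * g) := by group
          rw [e]; exact H.mul_mem hiH this
    rcases h.orderOf_SR_cases i with h2 | h4
    · -- k = 1, Klein four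
      left
      have hk1 : k = 1 := by
        rw [h2] at hio
        exact (Nat.pow_right_injective (le_refl 2) (by simpa using hio)).symm
      subst hk1
      rw [pow_one, h.orderOf_R_eq_two] at hk
      subst hk
      have hi0 : Mz n * i = 0 := h.orderOf_SR_eq_two.mp h2
      have hz : ∀ g : S, g ∈ Subgroup.zpowers (R x (Mz n)) ↔ g = 1 ∨ g = R x (Mz n) := by
        intro g
        constructor
        · intro hg
          rw [Subgroup.mem_zpowers_iff] at hg
          obtain ⟨m, rfl⟩ := hg
          have hsq : R x (Mz n) ^ (2 : ℤ) = 1 := by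
            rw [zpow_ofNat, pow_two, ← h.R_add, h.R_eq_one]; linear_combination hM
          rcases Int.even_or_odd' m with ⟨c, rfl | rfl⟩
          · left; rw [zpow_mul, hsq, one_zpow]
          · right; rw [zpow_add, zpow_mul, hsq, one_zpow, one_mul, zpow_one]
        · rintro (rfl | rfl)
          · exact one_mem _
          · exact Subgroup.mem_zpowers _
      apply Cfsg.Agent.Lib.Helper9.Wr.isKleinFour_of_mem_iff H (R x (Mz n)) (SR x y i)
        (SR x y (i + Mz n))
      · rw [Ne, h.R_eq_one]; exact hM0
      · exact h.SR_ne_one _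
      · exact h.SR_ne_one _
      · exact h.R_ne_SR _ _
      · exact h.R_ne_SR _ _
      · rw [Ne, h.SR_inj]; intro h1; apply hM0; linear_combination -h1
      · rw [← h.R_add, h.R_eq_one]; linear_combination hM
      · rw [h.SR_mul_self, hi0, R_zero]
      · rw [h.SR_mul_self, h.R_eq_one]
        have hMM := Mz_mul_Mz (n := n) h.n2
        linear_combination hi0 + hMM
      · intro g
        rw [hmem, hz, hz]
        constructor
        · rintro ((h1 | h1) | (h1 | h1))
          · exact Or.inl h1
          · exact Or.inr (Or.inl h1)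
          · right; right; left
            have : g = SR x y i * ((SR x y i)⁻¹ * g) := by group
            rw [this, h1, mul_one]
          · right; right; right
            have : g = SR x y i * ((SR x y i)⁻¹ * g) := by group
            rw [this, h1, h.SR_mul_R, h.SR_inj]
            have := Mz_mul_rho (n := n) h.n2
            linear_combination this
        · rintro (rfl | rfl | rfl | rfl)
          · exact Or.inl (Or.inl rfl)
          · exact Or.inl (Or.inr rfl)
          · exact Or.inr (Or.inl (by group))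
          · right; right
            rw [h.SR_inv, h.SR_mul_SR, h.R_inj]
            have hr := rho_mul_rho (n := n) h.n2
            have hMr := Mz_mul_rho (n := n) h.n2
            linear_combination hMr
    · -- k = 2, quaternion
      right; left
      have hk2 : k = 2 := by
        rw [h4] at hio
        exact (Nat.pow_right_injective (le_refl 2) (by simpa using hio)).symm
      subst hk2
      have hi1 : Mz n * i = Mz n := h.orderOf_SR_eq_four.mp h4
      have hd4 : orderOf (R x d) = 4 := by rw [hk]; norm_num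
      have hd : d = Kz n ∨ d = Mz n + Kz n := h.orderOf_R_eq_four.mp hd4
      have hK := two_mul_Kz (n := n) h.n2
      have hMK := Mz_mul_Kz h.hn
      have hMd : Mz n * d = 0 := by
        rcases hd with rfl | rfl
        · exact hMK
        · have hMM := Mz_mul_Mz (n := n) h.n2
          linear_combination hMM + hMK
      have h2d : 2 * d = Mz n := by
        rcases hd with rfl | rfl
        · exact hK
        · linear_combination hM + hK
      have hNZ : NeZero 2 := ⟨by norm_num⟩
      refine Cfsg.Agent.Lib.Helper10.nonempty_mulEquiv_quaternionGroup 2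
        (⟨R x d, hrH⟩ : H) ⟨SR x y i, hiH⟩ ?_ ?_ ?_ ?_ ?_
      · rw [Subgroup.orderOf_mk, hd4]
      · apply Subtype.ext
        simp only [Subgroup.coe_mul, Subgroup.coe_inv]
        rw [h.conj_SR_R, ← h.R_neg, h.R_inj]
        unfold rho
        linear_combination hMd
      · apply Subtype.ext
        simp only [Subgroup.coe_pow]
        rw [pow_two, h.SR_mul_self, hi1, pow_two, ← h.R_add, h.R_inj]
        linear_combination -h2d
      · rw [coe_mem_zpowers_iff]
        intro hmemz
        exact h.SR_not_mem i ((Subgroup.zpowers_le.mpr (h.R_mem d)) hmemz)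
      · rintro ⟨g, hg⟩
        rw [coe_mem_zpowers_iff, coe_mem_zpowers_iff]
        simp only [Subgroup.coe_mul, Subgroup.coe_inv]
        exact (hmem g).mp hg
  · push Not at hex
    right; right
    by_cases hk0 : k = 0
    · -- `H ∩ ⟨x⟩ = 1`
      subst hk0
      rw [pow_zero, orderOf_eq_one_iff] at hk
      have hrot1 : ∀ i : ZMod (2 ^ n), R x i ∈ H → R x i = 1 := by
        intro i hi
        have := hrot i hi
        rw [hk, Subgroup.zpowers_one_eq_bot, Subgroup.mem_bot] at this
        exact this
      by_cases hsr : ∃ i : ZMod (2 ^ n), SR x y i ∈ H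
      · obtain ⟨i, hi⟩ := hsr
        have hi2 : orderOf (SR x y i) = 2 := by
          rcases h.orderOf_SR_cases i with h2 | h4
          · exact h2
          · exfalso
            have h1 : SR x y i * SR x y i ∈ H := H.mul_mem hi hi
            rw [h.SR_mul_self] at h1
            have := hrot1 _ h1
            rw [h.R_eq_one, h.orderOf_SR_eq_four.mp h4] at this
            exact hM0 this
        apply Cfsg.Agent.H26.isPGroup_two_mulAut_of_cyclic_index_two (⟨SR x y i, hi⟩ : H) 1
          (by norm_num) (by rw [Subgroup.orderOf_mk, hi2, pow_one])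
        · rintro ⟨g, hg⟩ hgn
          exfalso
          apply hgn
          rw [coe_mem_zpowers_iff]
          simp only
          rcases h.cases g with ⟨j, rfl⟩ | ⟨j, rfl⟩
          · rw [hrot1 j hg]; exact one_mem _
          · have h1 := hrefl i j hi hg
            rw [hk, Subgroup.zpowers_one_eq_bot, Subgroup.mem_bot] at h1
            have : SR x y j = SR x y i := by
              have e : SR x y j = SR x y i * ((SR x y i)⁻¹ * SR x y j) := by group
              rw [e, h1, mul_one]
            rw [this]; exact Subgroup.mem_zpowers _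
        · rintro ⟨g, hg⟩ ⟨g', hg'⟩ hgn
          exfalso
          apply hgn
          rw [coe_mem_zpowers_iff]
          simp only
          rcases h.cases g with ⟨j, rfl⟩ | ⟨j, rfl⟩
          · rw [hrot1 j hg]; exact one_mem _
          · have h1 := hrefl i j hi hg
            rw [hk, Subgroup.zpowers_one_eq_bot, Subgroup.mem_bot] at h1
            have : SR x y j = SR x y i := by
              have e : SR x y j = SR x y i * ((SR x y i)⁻¹ * SR x y j) := by group
              rw [e, h1, mul_one]
            rw [this]; exact Subgroup.mem_zpowers _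
      · push Not at hsr
        have : Subsingleton H := by
          constructor
          rintro ⟨a, ha⟩ ⟨b, hb⟩
          apply Subtype.ext
          simp only
          have h1 : ∀ g ∈ H, g = 1 := by
            intro g hg
            rcases h.cases g with ⟨j, rfl⟩ | ⟨j, rfl⟩
            · exact hrot1 j hg
            · exact absurd hg (hsr j)
          rw [h1 a ha, h1 b hb]
        exact isPGroup_mulAut_of_subsingleton 2
    · apply Cfsg.Agent.H26.isPGroup_two_mulAut_of_cyclic_index_two (⟨R x d, hrH⟩ : H) k
        (Nat.pos_of_ne_zero hk0) (by rw [Subgroup.orderOf_mk, hk]) ?_ hidx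
      rintro ⟨g, hg⟩ hgn
      rw [coe_mem_zpowers_iff] at hgn
      simp only at hgn
      rw [Subgroup.orderOf_mk, Subgroup.orderOf_mk, hk]
      rcases h.cases g with ⟨j, rfl⟩ | ⟨j, rfl⟩
      · exact absurd (hrot j hg) hgn
      · exact hex j hg

end QDData

end Cfsg.Agent.Lib.Helper9.QD
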