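import Mathlib
import Cfsg.Agent.Lib.Helper9.QD.Structure
import Cfsg.Agent.Lib.Helper9.PGroupCoatom

set_option autoImplicit false

/-!
# The three maximal subgroups of a quasi-dihedral group
-/

namespace Cfsg.Agent.Lib.Helper9.QD

variable {S : Type*} [Group S] {n : ℕ} {x y : S}

namespace QDData

/-- the subgroup `{R i | i even} ∪ {SR i | M i = c}` for `c ∈ {0, M}` -/
def Mc (h : QDData S n x y) (c : ZMod (2 ^ n)) (hc : 2 * c = 0) : Subgroup S where
  carrier := {g | (∃ i : ZMod (2 ^ n), Mz n * i = 0 ∧ g = R x i) ∨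
    (∃ i : ZMod (2 ^ n), Mz n * i = c ∧ g = SR x y i)}
  one_mem' := Or.inl ⟨0, mul_zero _, R_zero.symm⟩
  mul_mem' := by
    have hMr := Mz_mul_rho (n := n) h.n2
    rintro a b (⟨i, hi, rfl⟩ | ⟨i, hi, rfl⟩) (⟨j, hj, rfl⟩ | ⟨j, hj, rfl⟩)
    · left; exact ⟨i + j, by linear_combination hi + hj, (h.R_add i j).symm⟩
    · right; exact ⟨i + j, by linear_combination hi + hj, h.R_mul_SR i j⟩
    · right
      refine ⟨i + rho n * j, ?_, h.SR_mul_R i j⟩
      linear_combination hi + j * hMr + hj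
    · left
      refine ⟨i + rho n * j, ?_, h.SR_mul_SR i j⟩
      linear_combination hi + j * hMr + hj + hc
  inv_mem' := by
    have hMr := Mz_mul_rho (n := n) h.n2
    rintro a (⟨i, hi, rfl⟩ | ⟨i, hi, rfl⟩)
    · left; exact ⟨-i, by linear_combination -hi, (h.R_neg i).symm⟩
    · right
      refine ⟨-(rho n * i), ?_, h.SR_inv i⟩
      linear_combination -i * hMr - hi - hc

/-- the quaternion maximal subgroup -/
def M2 (h : QDData S n x y) : Subgroup S := h.Mc (Mz n) (two_mul_Mz h.n1)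

/-- the dihedral maximal subgroup -/
def M3 (h : QDData S n x y) : Subgroup S := h.Mc 0 (mul_zero _)

variable (h : QDData S n x y)
include h

theorem mem_Mc {c : ZMod (2 ^ n)} {hc : 2 * c = 0} {g : S} :
    g ∈ h.Mc c hc ↔ (∃ i : ZMod (2 ^ n), Mz n * i = 0 ∧ g = R x i) ∨
      (∃ i : ZMod (2 ^ n), Mz n * i = c ∧ g = SR x y i) := Iff.rfl

theorem R_mem_Mc {c : ZMod (2 ^ n)} {hc : 2 * c = 0} {i : ZMod (2 ^ n)} :
    R x i ∈ h.Mc c hc ↔ Mz n * i = 0 := by
  rw [h.mem_Mc]
  constructor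
  · rintro (⟨j, hj, hij⟩ | ⟨j, hj, hij⟩)
    · rw [h.R_inj] at hij; rw [hij]; exact hj
    · exact absurd hij (h.R_ne_SR _ _)
  · intro hi; exact Or.inl ⟨i, hi, rfl⟩

theorem SR_mem_Mc {c : ZMod (2 ^ n)} {hc : 2 * c = 0} {i : ZMod (2 ^ n)} :
    SR x y i ∈ h.Mc c hc ↔ Mz n * i = c := by
  rw [h.mem_Mc]
  constructor
  · rintro (⟨j, hj, hij⟩ | ⟨j, hj, hij⟩)
    · exact absurd hij.symm (h.R_ne_SR _ _)
    · rw [h.SR_inj] at hij; rw [hij]; exact hj
  · intro hi; exact Or.inr ⟨i, hi, rfl⟩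

theorem index_Mc (c : ZMod (2 ^ n)) (hc : 2 * c = 0) : (h.Mc c hc).index = 2 := by
  have hM := two_mul_Mz (n := n) h.n1
  have hM0 := Mz_ne_zero (n := n) h.n1
  have hMr := Mz_mul_rho (n := n) h.n2
  rw [Subgroup.index_eq_two_iff]
  refine ⟨R x (1 : ZMod (2 ^ n)), ?_⟩
  intro b
  rcases h.cases b with ⟨i, rfl⟩ | ⟨i, rfl⟩
  · rw [← h.R_add, h.R_mem_Mc, h.R_mem_Mc]
    rcases Mz_mul_cases h.n1 i with hi | hi
    · right
      refine ⟨hi, ?_⟩
      intro h1
      apply hM0
      linear_combination h1 - hi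
    · left
      refine ⟨by linear_combination hi + hM, ?_⟩
      rw [hi]; exact hM0
  · rw [h.SR_mul_R, h.SR_mem_Mc, h.SR_mem_Mc]
    have e : Mz n * (i + rho n * 1) = Mz n * i + Mz n := by linear_combination hMr
    rw [e]
    by_cases hi : Mz n * i = c
    · right
      refine ⟨hi, ?_⟩
      intro h1
      apply hM0
      linear_combination h1 - hi
    · left
      refine ⟨?_, hi⟩
      rcases Mz_mul_cases h.n1 i with hi' | hi'
      · rcases eq_zero_or_eq_Mz_of_two_mul h.n1 hc with rfl | rfl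
        · exact absurd hi' hi
        · rw [hi', zero_add]
      · rcases eq_zero_or_eq_Mz_of_two_mul h.n1 hc with rfl | rfl
        · rw [hi']; linear_combination hM
        · exact absurd hi' hi

theorem isPGroup [Finite S] : IsPGroup 2 S := IsPGroup.of_card h.card

omit h in
theorem sq_mem_of_index_two (M : Subgroup S) (hM : M.index = 2) (g : S) : g * g ∈ M := by
  rw [Subgroup.mul_mem_iff_of_index_two hM]

theorem isCoatom_zpowers : IsCoatom (Subgroup.zpowers x) :=
  isCoatom_of_index_prime _ Nat.prime_two h.index_zpowers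

theorem isCoatom_Mc (c : ZMod (2 ^ n)) (hc : 2 * c = 0) : IsCoatom (h.Mc c hc) :=
  isCoatom_of_index_prime _ Nat.prime_two (h.index_Mc c hc)

omit h in
theorem eq_of_isCoatom_le {G : Type*} [Group G] {A B : Subgroup G} (hA : IsCoatom A)
    (hB : IsCoatom B) (hle : A ≤ B) : B = A := by
  by_contra hne
  exact hB.1 (hA.2 B (lt_of_le_of_ne hle (fun e => hne e.symm)))

/-- classification of the maximal subgroups -/
theorem coatom_cases [Finite S] (M : Subgroup S) (hM : IsCoatom M) :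
    M = Subgroup.zpowers x ∨ M = h.M2 ∨ M = h.M3 := by
  have hidx : M.index = 2 := index_of_isCoatom_of_isPGroup h.isPGroup M hM
  have hev : ∀ i : ZMod (2 ^ n), Mz n * i = 0 → R x i ∈ M := by
    intro i hi
    obtain ⟨j, rfl⟩ := (Mz_mul_eq_zero_iff h.n1 i).mp hi
    have := sq_mem_of_index_two M hidx (R x j)
    rw [← h.R_add] at this
    rwa [two_mul]
  by_cases hx : x ∈ M
  · left
    apply eq_of_isCoatom_le h.isCoatom_zpowers hM
    rw [Subgroup.zpowers_le]; exact hx
  · right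
    by_cases hy : y ∈ M
    · right
      apply eq_of_isCoatom_le (h.isCoatom_Mc _ _) hM
      intro g hg
      rcases hg with ⟨i, hi, rfl⟩ | ⟨i, hi, rfl⟩
      · exact hev i hi
      · rw [SR_def]; exact M.mul_mem (hev i hi) hy
    · left
      apply eq_of_isCoatom_le (h.isCoatom_Mc _ _) hM
      have hxy : SR x y (1 : ZMod (2 ^ n)) ∈ M := by
        rw [SR_def, h.R_one, Subgroup.mul_mem_iff_of_index_two hidx]
        exact ⟨fun h' => absurd h' hx, fun h' => absurd h' hy⟩
      intro g hg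
      rcases hg with ⟨i, hi, rfl⟩ | ⟨i, hi, rfl⟩
      · exact hev i hi
      · have e : SR x y i = R x (i - 1) * SR x y (1 : ZMod (2 ^ n)) := by
          rw [h.R_mul_SR]; congr 1; ring
        rw [e]
        refine M.mul_mem (hev _ ?_) hxy
        linear_combination hi

theorem zpowers_ne_M2 : Subgroup.zpowers x ≠ h.M2 := by
  intro he
  have : SR x y (1 : ZMod (2 ^ n)) ∈ h.M2 := h.SR_mem_Mc.mpr (mul_one _)
  rw [← he] at this
  exact h.SR_not_mem 1 this

theorem zpowers_ne_M3 : Subgroup.zpowers x ≠ h.M3 := by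
  intro he
  have : SR x y (0 : ZMod (2 ^ n)) ∈ h.M3 := h.SR_mem_Mc.mpr (mul_zero _)
  rw [← he] at this
  exact h.SR_not_mem 0 this

theorem M2_ne_M3 : h.M2 ≠ h.M3 := by
  intro he
  have : SR x y (0 : ZMod (2 ^ n)) ∈ h.M3 := h.SR_mem_Mc.mpr (mul_zero _)
  rw [← he] at this
  have h2 := h.SR_mem_Mc.mp this
  rw [mul_zero] at h2
  exact Mz_ne_zero h.n1 h2.symm

theorem card_of_index_two [Finite S] (M : Subgroup S) (hM : M.index = 2) : Nat.card M = 2 ^ n := by
  have h1 := M.card_mul_index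
  rw [hM, h.card, pow_succ] at h1
  exact Nat.eq_of_mul_eq_mul_right (by norm_num) h1

theorem orderOf_R_two : orderOf (R x (2 : ZMod (2 ^ n))) = 2 ^ (n - 1) := by
  have e : R x (2 : ZMod (2 ^ n)) = x ^ 2 := by
    have := h.R_natCast 2
    simpa using this
  rw [e, orderOf_pow', h.ox]
  · have hn := h.n1
    have h2 : 2 ^ n = 2 * 2 ^ (n - 1) := by rw [← pow_succ']; congr 1; omega
    rw [h2, Nat.gcd_mul_right_left, Nat.mul_div_cancel_left _ (by norm_num)]
  · norm_num

end QDData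

end Cfsg.Agent.Lib.Helper9.QD
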