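import Mathlib
import Cfsg.Agent.Lib.Helper9.QD.Maximal
import Cfsg.Agent.Lib.Helper2.DihedralIso
import Cfsg.Agent.Lib.Helper10.UniqueOrderP

set_option autoImplicit false

/-!
# Isomorphism types of the maximal subgroups of a quasi-dihedral group
-/

namespace Cfsg.Agent.Lib.Helper9.QD

variable {S : Type*} [Group S] {n : ℕ} {x y : S}

namespace QDData

variable (h : QDData S n x y)
include h

theorem M3_eq_closure [Finite S] :
    Subgroup.closure ({SR x y (2 : ZMod (2 ^ n)), SR x y (0 : ZMod (2 ^ n))} : Set S) = h.M3 ∧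
    Nonempty (h.M3 ≃* DihedralGroup (2 ^ (n - 1))) := by
  have hM := two_mul_Mz (n := n) h.n1
  have h2 : Mz n * 2 = 0 := by linear_combination hM
  have e := Cfsg.Agent.Lib.Helper2.TwoInv.nonempty_mulEquiv_dihedral
    (x := SR x y (2 : ZMod (2 ^ n))) (y := SR x y (0 : ZMod (2 ^ n)))
    (by rw [h.SR_mul_self, h2, R_zero]) (by rw [h.SR_mul_self, mul_zero, R_zero])
    (h.SR_ne_one _) (h.SR_ne_one _)
  have hprod : SR x y (2 : ZMod (2 ^ n)) * SR x y (0 : ZMod (2 ^ n)) = R x (2 : ZMod (2 ^ n)) := by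
    rw [h.SR_mul_SR, mul_zero, add_zero]
  rw [hprod, h.orderOf_R_two] at e
  obtain ⟨e⟩ := e
  have hle : Subgroup.closure ({SR x y (2 : ZMod (2 ^ n)), SR x y (0 : ZMod (2 ^ n))} : Set S)
      ≤ h.M3 := by
    rw [Subgroup.closure_le]
    intro g hg
    rcases hg with rfl | rfl
    · exact h.SR_mem_Mc.mpr h2
    · exact h.SR_mem_Mc.mpr (mul_zero _)
  have hcard : Nat.card (Subgroup.closure
      ({SR x y (2 : ZMod (2 ^ n)), SR x y (0 : ZMod (2 ^ n))} : Set S)) = 2 ^ n := by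
    rw [Nat.card_congr e.toEquiv, DihedralGroup.nat_card]
    have hn := h.n1
    rw [← pow_succ']; congr 1; omega
  have heq : Subgroup.closure ({SR x y (2 : ZMod (2 ^ n)), SR x y (0 : ZMod (2 ^ n))} : Set S)
      = h.M3 := by
    apply Subgroup.eq_of_le_of_card_ge hle
    rw [hcard]
    exact (h.card_of_index_two h.M3 (h.index_Mc _ _)).le
  exact ⟨heq, ⟨(MulEquiv.subgroupCongr heq).symm.trans e⟩⟩

theorem M2_quaternion [Finite S] : Nonempty (h.M2 ≃* QuaternionGroup (2 ^ (n - 2))) := by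
  have hM := two_mul_Mz (n := n) h.n1
  have hK := two_mul_Kz (n := n) h.n2
  have h2 : Mz n * 2 = 0 := by linear_combination hM
  have hNZ : NeZero (2 ^ (n - 2)) := ⟨by positivity⟩
  have ha_mem : R x (2 : ZMod (2 ^ n)) ∈ h.M2 := h.R_mem_Mc.mpr h2
  have hx_mem : SR x y (1 : ZMod (2 ^ n)) ∈ h.M2 := h.SR_mem_Mc.mpr (mul_one _)
  -- powers of `a`
  have hpow : ∀ j : ZMod (2 ^ n), R x (2 * j) = (R x (2 : ZMod (2 ^ n))) ^ j.val := by
    intro j
    rw [h.R_pow, ZMod.natCast_zmod_val, mul_comm]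
  have hzp : ∀ (g : h.M2) (j : ZMod (2 ^ n)), (g : S) = R x (2 * j) →
      g ∈ Subgroup.zpowers (⟨R x (2 : ZMod (2 ^ n)), ha_mem⟩ : h.M2) := by
    intro g j hg
    have : g = (⟨R x (2 : ZMod (2 ^ n)), ha_mem⟩ : h.M2) ^ j.val := by
      apply Subtype.ext
      rw [hg, hpow]; rfl
    rw [this]
    exact Subgroup.pow_mem _ (Subgroup.mem_zpowers _) _
  refine Cfsg.Agent.Lib.Helper10.nonempty_mulEquiv_quaternionGroup (2 ^ (n - 2))
    (⟨R x (2 : ZMod (2 ^ n)), ha_mem⟩ : h.M2) ⟨SR x y (1 : ZMod (2 ^ n)), hx_mem⟩ ?_ ?_ ?_ ?_ ?_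
  · have : orderOf (⟨R x (2 : ZMod (2 ^ n)), ha_mem⟩ : h.M2) = orderOf (R x (2 : ZMod (2 ^ n))) :=
      (Subgroup.orderOf_coe _).symm
    rw [this, h.orderOf_R_two]
    have hn := h.hn
    rw [← pow_succ']; congr 1; omega
  · apply Subtype.ext
    simp only [Subgroup.coe_mul, Subgroup.coe_inv]
    rw [h.conj_SR_R, ← h.R_neg, h.R_inj]
    unfold rho
    linear_combination hM
  · apply Subtype.ext
    simp only [Subgroup.coe_pow]
    rw [pow_two, h.SR_mul_self, mul_one, h.R_pow, h.R_inj]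
    unfold Mz Kz at hK
    unfold Mz
    rw [← hK]; ring
  · intro hmem
    rw [Subgroup.mem_zpowers_iff] at hmem
    obtain ⟨k, hk⟩ := hmem
    have hk' := congrArg Subtype.val hk
    simp only [Subgroup.coe_zpow] at hk'
    have : SR x y (1 : ZMod (2 ^ n)) ∈ Subgroup.zpowers x := by
      rw [← hk']
      exact Subgroup.zpow_mem _ (h.R_mem _) _
    exact h.SR_not_mem _ this
  · intro g
    rcases g.2 with ⟨i, hi, hg⟩ | ⟨i, hi, hg⟩
    · left
      obtain ⟨j, rfl⟩ := (Mz_mul_eq_zero_iff h.n1 i).mp hi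
      exact hzp g j hg
    · right
      obtain ⟨j, rfl⟩ := (Mz_mul_eq_Mz_iff h.n1 i).mp hi
      apply hzp _ (rho n * j)
      simp only [Subgroup.coe_mul, Subgroup.coe_inv]
      rw [hg, h.SR_inv, h.SR_mul_SR, h.R_inj]
      ring

end QDData

end Cfsg.Agent.Lib.Helper9.QD
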