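import Mathlib
import Cfsg.Agent.Lib.Helper9.QD.MaxIso

set_option autoImplicit false

/-!
# Commutator, Frattini subgroup, centre of a quasi-dihedral group
-/

namespace Cfsg.Agent.Lib.Helper9.QD

variable {S : Type*} [Group S] {n : ℕ} {x y : S}

theorem commutator_le_of_index_two {G : Type*} [Group G] (H : Subgroup G) (hH : H.index = 2) :
    commutator G ≤ H := by
  rw [commutator_def, Subgroup.commutator_le]
  intro g₁ _ g₂ _
  rw [commutatorElement_def]
  simp only [Subgroup.mul_mem_iff_of_index_two hH, inv_mem_iff]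
  tauto

theorem le_frattini_of_forall_coatom {G : Type*} [Group G] (D : Subgroup G)
    (hD : ∀ M : Subgroup G, IsCoatom M → D ≤ M) : D ≤ frattini G := by
  unfold frattini Order.radical
  exact le_iInf₂ hD

namespace QDData

open scoped commutatorElement

variable (h : QDData S n x y)
include h

theorem Mz_ne_two : Mz n ≠ 2 := by
  intro h2
  have hn := h.hn
  have h3 := Mz_val (n := n) h.n1
  rw [h2] at h3
  have h4 : (2 : ZMod (2 ^ n)).val = 2 := by
    have : (2 : ZMod (2 ^ n)) = ((2 : ℕ) : ZMod (2 ^ n)) := by norm_num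
    rw [this, ZMod.val_natCast]
    apply Nat.mod_eq_of_lt
    calc 2 = 2 ^ 1 := by norm_num
      _ < 2 ^ n := Nat.pow_lt_pow_right (by norm_num) (by omega)
  rw [h4] at h3
  have h5 : 2 ^ 2 ≤ 2 ^ (n - 1) := Nat.pow_le_pow_right (by norm_num) (by omega)
  omega

theorem mem_zpowers_R_two_iff {g : S} :
    g ∈ Subgroup.zpowers (R x (2 : ZMod (2 ^ n))) ↔ ∃ i : ZMod (2 ^ n), Mz n * i = 0 ∧ g = R x i := by
  have hM := two_mul_Mz (n := n) h.n1
  constructor
  · intro hg
    rw [Subgroup.mem_zpowers_iff] at hg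
    obtain ⟨k, rfl⟩ := hg
    have hmem : (R x (2 : ZMod (2 ^ n))) ^ k ∈ h.M3 :=
      Subgroup.zpow_mem _ (h.R_mem_Mc.mpr (by linear_combination hM)) _
    have hmem2 : (R x (2 : ZMod (2 ^ n))) ^ k ∈ Subgroup.zpowers x :=
      Subgroup.zpow_mem _ (h.R_mem _) _
    obtain ⟨i, hi⟩ := h.mem_zpowers_iff.mp hmem2
    rw [hi] at hmem ⊢
    exact ⟨i, h.R_mem_Mc.mp hmem, rfl⟩
  · rintro ⟨i, hi, rfl⟩
    obtain ⟨j, rfl⟩ := (Mz_mul_eq_zero_iff h.n1 i).mp hi
    have : R x (2 * j) = (R x (2 : ZMod (2 ^ n))) ^ j.val := by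
      rw [h.R_pow, ZMod.natCast_zmod_val, mul_comm]
    rw [this]
    exact Subgroup.pow_mem _ (Subgroup.mem_zpowers _) _

theorem commutator_eq : commutator S = Subgroup.zpowers (R x (2 : ZMod (2 ^ n))) := by
  apply le_antisymm
  · intro g hg
    have h1 := commutator_le_of_index_two _ h.index_zpowers hg
    have h2 := commutator_le_of_index_two _ (h.index_Mc 0 (mul_zero _)) hg
    obtain ⟨i, rfl⟩ := h.mem_zpowers_iff.mp h1
    rw [h.mem_zpowers_R_two_iff]
    exact ⟨i, h.R_mem_Mc.mp h2, rfl⟩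
  · rw [Subgroup.zpowers_le]
    have hu := two_sub_Mz_mul h.hn
    have : R x (2 : ZMod (2 ^ n)) = ⁅SR x y (0 : ZMod (2 ^ n)), R x (-(1 + Kz n))⁆ := by
      rw [commutatorElement_def, h.conj_SR_R, ← h.R_neg, ← h.R_add, h.R_inj]
      unfold rho
      linear_combination -hu
    rw [this, commutator_def]
    exact Subgroup.commutator_mem_commutator (Subgroup.mem_top _) (Subgroup.mem_top _)

theorem frattini_eq [Finite S] : frattini S = Subgroup.zpowers (R x (2 : ZMod (2 ^ n))) := by
  have hM := two_mul_Mz (n := n) h.n1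
  apply le_antisymm
  · intro g hg
    have h1 := frattini_le_coatom h.isCoatom_zpowers hg
    have h2 := frattini_le_coatom (h.isCoatom_Mc 0 (mul_zero _)) hg
    obtain ⟨i, rfl⟩ := h.mem_zpowers_iff.mp h1
    rw [h.mem_zpowers_R_two_iff]
    exact ⟨i, h.R_mem_Mc.mp h2, rfl⟩
  · apply le_frattini_of_forall_coatom
    intro M hMc
    rw [Subgroup.zpowers_le]
    rcases h.coatom_cases M hMc with rfl | rfl | rfl
    · exact h.R_mem _
    · exact h.R_mem_Mc.mpr (by linear_combination hM)
    · exact h.R_mem_Mc.mpr (by linear_combination hM)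

theorem center_eq : Subgroup.center S = Subgroup.zpowers (R x (Mz n)) := by
  have hM := two_mul_Mz (n := n) h.n1
  apply le_antisymm
  · intro g hg
    rw [Subgroup.mem_center_iff] at hg
    have h1 : g * SR x y (0 : ZMod (2 ^ n)) = SR x y 0 * g := (hg _).symm
    have h2 : g * R x (1 : ZMod (2 ^ n)) = R x 1 * g := (hg _).symm
    rw [h.commute_SR_iff] at h1
    have hnot : ∀ j : ZMod (2 ^ n), g ≠ SR x y j := by
      rintro j rfl
      rw [h.SR_mul_R, h.R_mul_SR, h.SR_inj] at h2
      apply h.Mz_ne_two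
      unfold rho at h2
      linear_combination h2
    rcases h1 with rfl | rfl | rfl | rfl
    · exact one_mem _
    · exact Subgroup.mem_zpowers _
    · exact absurd rfl (hnot _)
    · exact absurd rfl (hnot _)
  · rw [Subgroup.zpowers_le, Subgroup.mem_center_iff]
    intro g
    exact h.z_comm g

theorem card_center : Nat.card (Subgroup.center S) = 2 := by
  rw [h.center_eq, Nat.card_zpowers, h.orderOf_R_eq_two.mpr rfl]

theorem closure_involutions [Finite S] :
    Subgroup.closure {t : S | orderOf t = 2} = h.M3 := by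
  have hM := two_mul_Mz (n := n) h.n1
  have hMM := Mz_mul_Mz (n := n) h.n2
  apply le_antisymm
  · rw [Subgroup.closure_le]
    intro t ht
    have ht' : orderOf t = 2 := ht
    rcases h.cases t with ⟨i, rfl⟩ | ⟨i, rfl⟩
    · rw [h.orderOf_R_eq_two] at ht'
      subst ht'
      exact h.R_mem_Mc.mpr hMM
    · rw [h.orderOf_SR_eq_two] at ht'
      exact h.SR_mem_Mc.mpr ht'
  · rw [← h.M3_eq_closure.1]
    apply Subgroup.closure_mono
    intro t ht
    rcases ht with rfl | rfl
    · exact h.orderOf_SR_eq_two.mpr (by linear_combination hM)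
    · exact h.orderOf_SR_eq_two.mpr (mul_zero _)

end QDData

end Cfsg.Agent.Lib.Helper9.QD
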