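import Mathlib
import Cfsg.Agent.Lib.Helper9.QD.Frat

set_option autoImplicit false

/-!
# Normal subgroups of a quasi-dihedral group
-/

namespace Cfsg.Agent.Lib.Helper9.QD

variable {S : Type*} [Group S] {n : ℕ} {x y : S}

namespace QDData

variable (h : QDData S n x y)
include h

theorem orderOf_R_odd {i : ZMod (2 ^ n)} (hi : Mz n * i = Mz n) : orderOf (R x i) = 2 ^ n := by
  have hn := h.n1
  have e : n = (n - 1) + 1 := by omega
  have hM := two_mul_Mz (n := n) h.n1
  have h1 : ¬ (R x i) ^ 2 ^ (n - 1) = 1 := by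
    rw [h.R_pow, h.R_eq_one]
    have : ((2 ^ (n - 1) : ℕ) : ZMod (2 ^ n)) = Mz n := rfl
    rw [this, hi]
    exact Mz_ne_zero h.n1
  have h2 : (R x i) ^ 2 ^ ((n - 1) + 1) = 1 := by
    rw [pow_succ, pow_mul, h.R_pow, h.R_pow, h.R_eq_one]
    have : ((2 ^ (n - 1) : ℕ) : ZMod (2 ^ n)) = Mz n := rfl
    rw [this, hi]
    push_cast
    exact hM
  have := orderOf_eq_prime_pow h1 h2
  rw [this, ← e]

theorem normal_cases [Finite S] (N : Subgroup S) [N.Normal] (hN : N ≠ ⊤) :
    IsCoatom N ∨ (IsCyclic N ∧ N ≤ commutator S) := by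
  have hM := two_mul_Mz (n := n) h.n1
  by_cases hex : ∃ i : ZMod (2 ^ n), SR x y i ∈ N
  · left
    obtain ⟨i, hi⟩ := hex
    have hc : 2 * (Mz n * i) = 0 := by linear_combination i * hM
    have hR2 : R x (2 : ZMod (2 ^ n)) ∈ N := by
      have h1 : SR x y (i + 2 * 1) ∈ N := by
        rw [← h.conj_unit_SR]
        exact Subgroup.Normal.conj_mem inferInstance _ hi _
      have h2 : SR x y (i + 2 * 1) * (SR x y i)⁻¹ = R x (2 : ZMod (2 ^ n)) := by
        rw [h.SR_inv, h.SR_mul_SR, h.R_inj]
        have hr := rho_mul_rho (n := n) h.n2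
        linear_combination (-i) * hr
      rw [← h2]
      exact N.mul_mem h1 (N.inv_mem hi)
    have hev : ∀ j : ZMod (2 ^ n), Mz n * j = 0 → R x j ∈ N := by
      intro j hj
      have : R x j ∈ Subgroup.zpowers (R x (2 : ZMod (2 ^ n))) :=
        h.mem_zpowers_R_two_iff.mpr ⟨j, hj, rfl⟩
      exact (Subgroup.zpowers_le.mpr hR2) this
    have hle : h.Mc (Mz n * i) hc ≤ N := by
      intro g hg
      rcases hg with ⟨j, hj, rfl⟩ | ⟨j, hj, rfl⟩
      · exact hev j hj
      · have e : SR x y j = R x (j - i) * SR x y i := by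
          rw [h.R_mul_SR]; congr 1; ring
        rw [e]
        exact N.mul_mem (hev _ (by linear_combination hj)) hi
    have hco := h.isCoatom_Mc (Mz n * i) hc
    have : N = h.Mc (Mz n * i) hc := by
      by_contra hne
      exact hN (hco.2 N (lt_of_le_of_ne hle (fun e => hne e.symm)))
    rw [this]; exact hco
  · push Not at hex
    have hNx : N ≤ Subgroup.zpowers x := by
      intro g hg
      rcases h.cases g with ⟨i, rfl⟩ | ⟨i, rfl⟩
      · exact h.R_mem i
      · exact absurd hg (hex i)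
    by_cases hodd : ∃ i : ZMod (2 ^ n), Mz n * i = Mz n ∧ R x i ∈ N
    · left
      obtain ⟨i, hi, hiN⟩ := hodd
      have : N = Subgroup.zpowers x := by
        apply Subgroup.eq_of_le_of_card_ge hNx
        have h1 : Subgroup.zpowers (R x i) ≤ N := Subgroup.zpowers_le.mpr hiN
        have h2 := Subgroup.card_le_of_le h1
        rw [Nat.card_zpowers, h.orderOf_R_odd hi] at h2
        rw [Nat.card_zpowers, h.ox]
        exact h2
      rw [this]; exact h.isCoatom_zpowers
    · right
      push Not at hodd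
      refine ⟨Subgroup.isCyclic_of_le hNx, ?_⟩
      rw [h.commutator_eq]
      intro g hg
      obtain ⟨i, rfl⟩ := h.mem_zpowers_iff.mp (hNx hg)
      rw [h.mem_zpowers_R_two_iff]
      refine ⟨i, ?_, rfl⟩
      rcases Mz_mul_cases h.n1 i with hi | hi
      · exact hi
      · exact absurd hg (hodd i hi)

end QDData

end Cfsg.Agent.Lib.Helper9.QD
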