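import Mathlib
import Cfsg.Agent.Lib.Helper9.QD.SubAut
import Cfsg.Agent.Lib.Helper9.SylowTransport
import Cfsg.Agent.Lib.Helper13.Frobenius

set_option autoImplicit false

/-!
# Groups with quasi-dihedral Sylow 2-subgroups: the case of no odd automizers
-/

namespace Cfsg.Agent.Lib.Helper9.QD

open Cfsg.Agent.Lib.Helper9

universe u

variable {G : Type u} [Group G] [Finite G]

/-- every Klein four-subgroup of `S` has the same automizer index as `T` -/
theorem klein_relIndex_eq (S : Sylow 2 G) {n : ℕ} {x y : (S : Subgroup G)}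
    (h : QDData (S : Subgroup G) n x y) (T T' : Subgroup G) (hT : IsKleinFour T)
    (hTS : T ≤ S) (hT' : IsKleinFour T') (hT'S : T' ≤ S) :
    (Subgroup.centralizer (T' : Set G)).relIndex (Subgroup.normalizer (T' : Set G)) =
      (Subgroup.centralizer (T : Set G)).relIndex (Subgroup.normalizer (T : Set G)) := by
  obtain ⟨s, hs⟩ := h.klein_conj _ _ (isKleinFour_subgroupOf hTS hT) (isKleinFour_subgroupOf hT'S hT')
  have := conjMap_eq_of_subgroupOf hTS hT'S s hs
  rw [← this, relIndex_centralizer_normalizer_conjMap]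

/-- every `Q₈`-subgroup of `S` has the same outer automizer index as `Q` -/
theorem quat_relIndex_eq (S : Sylow 2 G) {n : ℕ} {x y : (S : Subgroup G)}
    (h : QDData (S : Subgroup G) n x y) (Q Q' : Subgroup G) (hQS : Q ≤ S)
    (eQ : Q ≃* QuaternionGroup 2) (hQ'S : Q' ≤ S) (eQ' : Q' ≃* QuaternionGroup 2) :
    (Q' ⊔ Subgroup.centralizer (Q' : Set G)).relIndex (Subgroup.normalizer (Q' : Set G)) =
      (Q ⊔ Subgroup.centralizer (Q : Set G)).relIndex (Subgroup.normalizer (Q : Set G)) := by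
  obtain ⟨s, hs⟩ := h.quat_conj _ _ ((Subgroup.subgroupOfEquivOfLe hQS).trans eQ)
    ((Subgroup.subgroupOfEquivOfLe hQ'S).trans eQ')
  have := conjMap_eq_of_subgroupOf hQS hQ'S s hs
  rw [← this, relIndex_sup_centralizer_normalizer_conjMap]

theorem localCentral_of_indices (S : Sylow 2 G) {n : ℕ} {x y : (S : Subgroup G)}
    (h : QDData (S : Subgroup G) n x y) (T : Subgroup G) (hT : IsKleinFour T) (hTS : T ≤ S)
    (Q : Subgroup G) (hQS : Q ≤ S) (eQ : Q ≃* QuaternionGroup 2)
    (h₁ : (Subgroup.centralizer (T : Set G)).relIndex (Subgroup.normalizer (T : Set G)) = 2)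
    (h₂ : (Q ⊔ Subgroup.centralizer (Q : Set G)).relIndex (Subgroup.normalizer (Q : Set G)) = 2) :
    Cfsg.Agent.Lib.Helper13.LocalCentral 2 G := by
  apply Cfsg.Agent.Lib.Helper13.localCentral_of_sylow S
  intro Q' hQ'S g hg hcop
  have hodd : Odd (orderOf g) := Nat.coprime_two_right.mp hcop
  rcases h.subgroup_trichotomy (Q'.subgroupOf S) with hK | ⟨⟨e⟩⟩ | hA
  · have hK' : IsKleinFour Q' := isKleinFour_of_subgroupOf hQ'S hK
    have h3 := klein_relIndex_eq S h T Q' hT hTS hK' hQ'S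
    rw [h₁] at h3
    exact mem_of_odd_of_relIndex_two _ _ h3 hg hodd
  · have e' : Q' ≃* QuaternionGroup 2 := (Subgroup.subgroupOfEquivOfLe hQ'S).symm.trans e
    have h3 := quat_relIndex_eq S h Q Q' hQS eQ hQ'S e'
    rw [h₂] at h3
    have h4 : g ∈ Q' ⊔ Subgroup.centralizer (Q' : Set G) :=
      mem_of_odd_of_relIndex_two _ _ h3 hg hodd
    exact mem_centralizer_of_mem_sup_centralizer Q' (S.2.to_le hQ'S) h4 hcop
  · exact mem_centralizer_of_isPGroup_mulAut Q' (isPGroup_mulAut_of_subgroupOf hQ'S hA) hg hcop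

theorem main_two_two (S : Sylow 2 G) (hS : Cfsg.IsQuasiDihedral (S : Subgroup G))
    (T : Subgroup G) (hT : IsKleinFour T) (hTS : T ≤ S)
    (Q : Subgroup G) (hQS : Q ≤ S) (eQ : Q ≃* QuaternionGroup 2)
    (h₁ : (Subgroup.centralizer (T : Set G)).relIndex (Subgroup.normalizer (T : Set G)) = 2)
    (h₂ : (Q ⊔ Subgroup.centralizer (Q : Set G)).relIndex (Subgroup.normalizer (Q : Set G)) = 2) :
    Cfsg.HasNormalPComplement 2 G ∧
    Nat.card {C : ConjClasses G // ∃ t : G, orderOf t = 2 ∧ ConjClasses.mk t = C} = 2 ∧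
    Nat.card {C : ConjClasses G // ∃ t : G, orderOf t = 4 ∧ ConjClasses.mk t = C} = 2 := by
  obtain ⟨n, x, y, h⟩ := exists_qdData hS
  have hLC := localCentral_of_indices S h T hT hTS Q hQS eQ h₁ h₂
  obtain ⟨K, hKn, hK⟩ := Cfsg.Agent.Lib.Helper13.exists_normal_complement_of_localCentral hLC S
  refine ⟨⟨S, K, hKn, hK⟩, ?_, ?_⟩
  · have := card_classes_eq_of_control S (fun a ha g hg => hLC.sylow_controls_fusion S a ha g hg) 1
    rw [pow_one] at this
    rw [this, h.card_classes_two]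
  · have := card_classes_eq_of_control S (fun a ha g hg => hLC.sylow_controls_fusion S a ha g hg) 2
    have e4 : (2 : ℕ) ^ 2 = 4 := by norm_num
    rw [e4] at this
    rw [this, h.card_classes_four]

end Cfsg.Agent.Lib.Helper9.QD
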