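import Mathlib
import Cfsg.Agent.Lib.Helper9.QD.Sylow
import Cfsg.Agent.Lib.Helper9.QD.NormalSub
import Cfsg.Agent.Lib.Helper9.OddChain

set_option autoImplicit false

/-!
# Fusion of involutions and of elements of order 4 in groups with quasi-dihedral Sylow 2-subgroups
-/

namespace Cfsg.Agent.Lib.Helper9.QD

open Cfsg.Agent.Lib.Helper9

section SLevel

variable {S : Type*} [Group S] {n : ℕ} {x y : S}

namespace QDData

variable (h : QDData S n x y)
include h

theorem isConj_SR_of_even {j : ZMod (2 ^ n)} (hj : Mz n * j = 0) :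
    IsConj (SR x y (0 : ZMod (2 ^ n))) (SR x y j) := by
  obtain ⟨k, rfl⟩ := (Mz_mul_eq_zero_iff h.n1 j).mp hj
  exact h.isConj_SR_even k

theorem isConj_SR_of_odd {j : ZMod (2 ^ n)} (hj : Mz n * j = Mz n) :
    IsConj (SR x y (1 : ZMod (2 ^ n))) (SR x y j) := by
  obtain ⟨k, rfl⟩ := (Mz_mul_eq_Mz_iff h.n1 j).mp hj
  exact h.isConj_SR_odd k

theorem involution_cases (t : S) (ht : orderOf t = 2) :
    t = R x (Mz n) ∨ IsConj (SR x y (0 : ZMod (2 ^ n))) t := by
  rcases h.cases t with ⟨i, rfl⟩ | ⟨i, rfl⟩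
  · left; rw [h.orderOf_R_eq_two.mp ht]
  · right; exact h.isConj_SR_of_even (h.orderOf_SR_eq_two.mp ht)

theorem order4_cases (t : S) (ht : orderOf t = 4) :
    IsConj (R x (Kz n)) t ∨ IsConj (SR x y (1 : ZMod (2 ^ n))) t := by
  rcases h.cases t with ⟨i, rfl⟩ | ⟨i, rfl⟩
  · left
    rcases h.orderOf_R_eq_four.mp ht with rfl | rfl
    · exact IsConj.refl _
    · exact h.isConj_R_K
  · right; exact h.isConj_SR_of_odd (h.orderOf_SR_eq_four.mp ht)

theorem normal_eq_top_of_mem (N : Subgroup S) [N.Normal] {i j : ZMod (2 ^ n)}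
    (hi : Mz n * i = Mz n) (hiN : SR x y i ∈ N) (hj : Mz n * j = 0) (hjN : SR x y j ∈ N) :
    N = ⊤ := by
  have hconj : ∀ a b : S, IsConj a b → a ∈ N → b ∈ N := by
    intro a b hab ha
    obtain ⟨c, rfl⟩ := isConj_iff.mp hab
    exact Subgroup.Normal.conj_mem inferInstance a ha c
  have h1 : SR x y (1 : ZMod (2 ^ n)) ∈ N := hconj _ _ (h.isConj_SR_of_odd hi).symm hiN
  have h0 : SR x y (0 : ZMod (2 ^ n)) ∈ N := hconj _ _ (h.isConj_SR_of_even hj).symm hjN
  have hx : R x (1 : ZMod (2 ^ n)) ∈ N := by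
    have : R x (1 : ZMod (2 ^ n)) = SR x y (1 : ZMod (2 ^ n)) * SR x y (0 : ZMod (2 ^ n)) := by
      rw [h.SR_mul_SR, mul_zero, add_zero]
    rw [this]; exact N.mul_mem h1 h0
  rw [eq_top_iff]
  intro g _
  have hR : ∀ i : ZMod (2 ^ n), R x i ∈ N := by
    intro i
    have : R x i = (R x (1 : ZMod (2 ^ n))) ^ i.val := by
      rw [h.R_pow, ZMod.natCast_zmod_val, mul_one]
    rw [this]; exact N.pow_mem hx _
  rcases h.cases g with ⟨i, rfl⟩ | ⟨i, rfl⟩
  · exact hR i
  · rw [SR_def, ← SR_zero (x := x) (y := y) (n := n)]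
    exact N.mul_mem (hR i) h0

end QDData

end SLevel

section GLevel

variable {G : Type*} [Group G] [Finite G] {S : Subgroup G} {n : ℕ} {x y : S}

theorem exists_odd_not_mem_of_relIndex_six (C N : Subgroup G) (h : C.relIndex N = 6) :
    ∃ g ∈ N, Odd (orderOf g) ∧ g ∉ C := by
  have : Fact (Nat.Prime 3) := ⟨Nat.prime_three⟩
  obtain ⟨g, hgN, ⟨k, hk⟩, hgC⟩ := exists_prime_pow_not_mem_of_dvd_relIndex (q := 3) C N
    (by rw [h]; norm_num)
  refine ⟨g, hgN, ?_, hgC⟩
  rw [hk]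
  exact Odd.pow (by decide)

/-- fusion of the central involution in the normalizer of a four-group -/
theorem klein_fusion (h : QDData S n x y) (T : Subgroup G) (hT : IsKleinFour T) (hTS : T ≤ S)
    {g : G} (hgN : g ∈ Subgroup.normalizer (T : Set G)) (hodd : Odd (orderOf g))
    (hgC : g ∉ Subgroup.centralizer (T : Set G)) :
    ∃ j : ZMod (2 ^ n), Mz n * j = 0 ∧ g * ((R x (Mz n) : S) : G) * g⁻¹ = ((SR x y j : S) : G) := by
  have hM := two_mul_Mz (n := n) h.n1
  have hMM := Mz_mul_Mz (n := n) h.n2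
  obtain ⟨i, hi, hT'⟩ := h.klein_eq (T.subgroupOf S) (isKleinFour_subgroupOf hTS hT)
  have hmem : ∀ a : S, (a : G) ∈ T ↔
      a = 1 ∨ a = R x (Mz n) ∨ a = SR x y i ∨ a = SR x y (i + Mz n) := by
    intro a
    rw [← h.mem_centralizer_SR, ← hT', Subgroup.mem_subgroupOf]
  have hzT : ((R x (Mz n) : S) : G) ∈ T := (hmem _).mpr (Or.inr (Or.inl rfl))
  have h1 : g * ((R x (Mz n) : S) : G) * g⁻¹ ∈ T := (Subgroup.mem_normalizer_iff.mp hgN _).mp hzT
  have h2 := (hmem ⟨_, hTS h1⟩).mp h1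
  have hz1 : ((R x (Mz n) : S) : G) ≠ 1 := by
    intro h0
    have : (R x (Mz n) : S) = 1 := Subtype.ext h0
    rw [h.R_eq_one] at this
    exact Mz_ne_zero h.n1 this
  rcases h2 with h2 | h2 | h2 | h2
  · exfalso
    have h3 := congrArg Subtype.val h2
    simp only [Subgroup.coe_one] at h3
    apply hz1
    have : ((R x (Mz n) : S) : G) = g⁻¹ * (g * ((R x (Mz n) : S) : G) * g⁻¹) * g := by group
    rw [this, h3]; group
  · exfalso
    have h3 := congrArg Subtype.val h2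
    simp only at h3
    exact hgC (klein_centralizes_of_fix T hT hzT hz1 hgN hodd h3)
  · exact ⟨i, hi, congrArg Subtype.val h2⟩
  · exact ⟨i + Mz n, by linear_combination hi + hMM, congrArg Subtype.val h2⟩

/-- fusion of `x^K` in the normalizer of a quaternion group -/
theorem quat_fusion (h : QDData S n x y) (Q : Subgroup G) (hQS : Q ≤ S)
    (eQ : Q ≃* QuaternionGroup 2)
    {g : G} (hgN : g ∈ Subgroup.normalizer (Q : Set G)) (hodd : Odd (orderOf g))
    (hgC : g ∉ Subgroup.centralizer (Q : Set G)) :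
    ∃ j : ZMod (2 ^ n), Mz n * j = Mz n ∧
      g * ((R x (Kz n) : S) : G) * g⁻¹ = ((SR x y j : S) : G) := by
  have hM := two_mul_Mz (n := n) h.n1
  have hMM := Mz_mul_Mz (n := n) h.n2
  have hMK := Mz_mul_Kz h.hn
  obtain ⟨i, hi, hQ'⟩ := h.quat_mem_iff (Q.subgroupOf S) ((Subgroup.subgroupOfEquivOfLe hQS).trans eQ)
  have hmem : ∀ a : S, (a : G) ∈ Q ↔ InQ x y i a := by
    intro a
    rw [← hQ', Subgroup.mem_subgroupOf]
  have hcQ : ((R x (Kz n) : S) : G) ∈ Q := (hmem _).mpr (h.inQ_RK i)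
  have h1 : g * ((R x (Kz n) : S) : G) * g⁻¹ ∈ Q := (Subgroup.mem_normalizer_iff.mp hgN _).mp hcQ
  have h2 := (hmem ⟨_, hQS h1⟩).mp h1
  rcases h2 with ⟨d, hd, h2⟩ | ⟨d, hd, h2⟩
  · exfalso
    apply hgC
    have hcard : Nat.card Q = 8 := card_of_equiv_quaternion eQ
    have hc4 : orderOf ((R x (Kz n) : S) : G) = 4 := by
      rw [Subgroup.orderOf_coe, h.orderOf_RK]
    apply quat_centralizes_of_normalizes Q hcard hcQ hc4 hgN hodd
    have h3 : (⟨_, hQS h1⟩ : S) ∈ Subgroup.zpowers (R x (Kz n)) := by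
      rw [h.mem_zpowers_RK_iff]; exact ⟨d, hd, h2⟩
    rw [Subgroup.mem_zpowers_iff] at h3 ⊢
    obtain ⟨k, hk⟩ := h3
    exact ⟨k, by simpa using congrArg Subtype.val hk⟩
  · refine ⟨i + d, ?_, congrArg Subtype.val h2⟩
    rcases eq_of_four_mul h.n2 hd with rfl | rfl | rfl | rfl
    · linear_combination hi
    · linear_combination hi + hMK
    · linear_combination hi + hMM
    · linear_combination hi + hMM + hMK

end GLevel

end Cfsg.Agent.Lib.Helper9.QD
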