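import Mathlib
import Cfsg.Agent.Lib.Helper9.QD.Fusion

set_option autoImplicit false

/-!
# Consequences of fusion in groups with quasi-dihedral Sylow 2-subgroups
-/

namespace Cfsg.Agent.Lib.Helper9.QD

open Cfsg.Agent.Lib.Helper9

theorem card_classes_eq_one {G : Type*} [Group G] (m : ℕ) (a : G) (ha : orderOf a = m)
    (hall : ∀ t : G, orderOf t = m → IsConj a t) :
    Nat.card {C : ConjClasses G // ∃ t : G, orderOf t = m ∧ ConjClasses.mk t = C} = 1 := by
  rw [Nat.card_eq_one_iff_unique]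
  refine ⟨⟨?_⟩, ⟨⟨ConjClasses.mk a, a, ha, rfl⟩⟩⟩
  rintro ⟨C₁, t₁, ht₁, rfl⟩ ⟨C₂, t₂, ht₂, rfl⟩
  apply Subtype.ext
  simp only
  rw [ConjClasses.mk_eq_mk_iff_isConj]
  exact (hall t₁ ht₁).symm.trans (hall t₂ ht₂)

theorem card_classes_eq_two {G : Type*} [Group G] (m : ℕ) (a b : G) (ha : orderOf a = m)
    (hb : orderOf b = m) (hab : ¬ IsConj a b)
    (hall : ∀ t : G, orderOf t = m → IsConj a t ∨ IsConj b t) :
    Nat.card {C : ConjClasses G // ∃ t : G, orderOf t = m ∧ ConjClasses.mk t = C} = 2 := by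
  rw [Nat.card_eq_two_iff]
  refine ⟨⟨ConjClasses.mk a, a, ha, rfl⟩, ⟨ConjClasses.mk b, b, hb, rfl⟩, ?_, ?_⟩
  · intro he
    rw [Subtype.ext_iff] at he
    simp only at he
    rw [ConjClasses.mk_eq_mk_iff_isConj] at he
    exact hab he
  · rw [Set.eq_univ_iff_forall]
    rintro ⟨C, t, ht, rfl⟩
    rcases hall t ht with h1 | h1
    · left
      rw [Subtype.ext_iff]
      simp only
      rw [ConjClasses.mk_eq_mk_iff_isConj]
      exact h1.symm
    · right
      rw [Set.mem_singleton_iff, Subtype.ext_iff]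
      simp only
      rw [ConjClasses.mk_eq_mk_iff_isConj]
      exact h1.symm

variable {G : Type*} [Group G] [Finite G]

theorem isConj_coe {S : Subgroup G} {a b : S} (hab : IsConj a b) : IsConj (a : G) (b : G) := by
  obtain ⟨c, hc⟩ := isConj_iff.mp hab
  rw [isConj_iff]
  exact ⟨(c : G), by rw [← hc]; simp⟩

variable (S : Sylow 2 G) {n : ℕ} {x y : (S : Subgroup G)} (h : QDData (S : Subgroup G) n x y)
include h

/-- the G-class of the central involution -/
theorem orderOf_zG : orderOf ((R x (Mz n) : (S : Subgroup G)) : G) = 2 := by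
  rw [Subgroup.orderOf_coe, h.orderOf_R_eq_two]

theorem orderOf_yG : orderOf ((SR x y (0 : ZMod (2 ^ n)) : (S : Subgroup G)) : G) = 2 := by
  rw [Subgroup.orderOf_coe, h.orderOf_SR_eq_two, mul_zero]

theorem orderOf_cG : orderOf ((R x (Kz n) : (S : Subgroup G)) : G) = 4 := by
  rw [Subgroup.orderOf_coe, h.orderOf_RK]

theorem orderOf_vG : orderOf ((SR x y (1 : ZMod (2 ^ n)) : (S : Subgroup G)) : G) = 4 := by
  rw [Subgroup.orderOf_coe, h.orderOf_SR_eq_four, mul_one]

/-- every involution of `G` is conjugate to `z` or to `y` -/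
theorem involution_isConj (t : G) (ht : orderOf t = 2) :
    IsConj ((R x (Mz n) : (S : Subgroup G)) : G) t ∨
    IsConj ((SR x y (0 : ZMod (2 ^ n)) : (S : Subgroup G)) : G) t := by
  obtain ⟨c, hc⟩ := Cfsg.Agent.Lib.Helper13.exists_conj_mem_sylow S t
    ⟨1, by rw [pow_one, ← ht]; exact pow_orderOf_eq_one t⟩
  have hts : IsConj t (c * t * c⁻¹) := isConj_iff.mpr ⟨c, rfl⟩
  have ho : orderOf (⟨c * t * c⁻¹, hc⟩ : (S : Subgroup G)) = 2 := by
    rw [← Subgroup.orderOf_coe]
    simp only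
    rw [← ht]
    exact (MulAut.conj c).orderOf_eq t
  rcases h.involution_cases _ ho with h1 | h1
  · left
    have h2 := congrArg Subtype.val h1
    simp only at h2
    rw [← h2]
    exact hts.symm
  · right
    exact (isConj_coe h1).trans hts.symm

/-- every element of order 4 of `G` is conjugate to `x^K` or to `xy` -/
theorem order4_isConj (t : G) (ht : orderOf t = 4) :
    IsConj ((R x (Kz n) : (S : Subgroup G)) : G) t ∨
    IsConj ((SR x y (1 : ZMod (2 ^ n)) : (S : Subgroup G)) : G) t := by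
  obtain ⟨c, hc⟩ := Cfsg.Agent.Lib.Helper13.exists_conj_mem_sylow S t
    ⟨2, by rw [show (2 : ℕ) ^ 2 = 4 by norm_num, ← ht]; exact pow_orderOf_eq_one t⟩
  have hts : IsConj t (c * t * c⁻¹) := isConj_iff.mpr ⟨c, rfl⟩
  have ho : orderOf (⟨c * t * c⁻¹, hc⟩ : (S : Subgroup G)) = 4 := by
    rw [← Subgroup.orderOf_coe]
    simp only
    rw [← ht]
    exact (MulAut.conj c).orderOf_eq t
  rcases h.order4_cases _ ho with h1 | h1
  · left
    exact (isConj_coe h1).trans hts.symm
  · right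
    exact (isConj_coe h1).trans hts.symm

/-- if `z` is fused to a non-central involution then all involutions are conjugate -/
theorem isConj_zG_yG_of_fused {g : G} {j : ZMod (2 ^ n)} (hj : Mz n * j = 0)
    (hg : g * ((R x (Mz n) : (S : Subgroup G)) : G) * g⁻¹ = ((SR x y j : (S : Subgroup G)) : G)) :
    IsConj ((R x (Mz n) : (S : Subgroup G)) : G)
      ((SR x y (0 : ZMod (2 ^ n)) : (S : Subgroup G)) : G) := by
  have h1 : IsConj ((R x (Mz n) : (S : Subgroup G)) : G) ((SR x y j : (S : Subgroup G)) : G) :=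
    isConj_iff.mpr ⟨g, hg⟩
  exact h1.trans (isConj_coe (h.isConj_SR_of_even hj)).symm

theorem isConj_cG_vG_of_fused {g : G} {j : ZMod (2 ^ n)} (hj : Mz n * j = Mz n)
    (hg : g * ((R x (Kz n) : (S : Subgroup G)) : G) * g⁻¹ = ((SR x y j : (S : Subgroup G)) : G)) :
    IsConj ((R x (Kz n) : (S : Subgroup G)) : G)
      ((SR x y (1 : ZMod (2 ^ n)) : (S : Subgroup G)) : G) := by
  have h1 : IsConj ((R x (Kz n) : (S : Subgroup G)) : G) ((SR x y j : (S : Subgroup G)) : G) :=
    isConj_iff.mpr ⟨g, hg⟩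
  exact h1.trans (isConj_coe (h.isConj_SR_of_odd hj)).symm

/-- a subgroup of index 2 contains an even reflection if `z` is fused -/
theorem even_mem_of_fused (H : Subgroup G) (hH : H.index = 2) {g : G} {j : ZMod (2 ^ n)}
    (hj : Mz n * j = 0)
    (hg : g * ((R x (Mz n) : (S : Subgroup G)) : G) * g⁻¹ = ((SR x y j : (S : Subgroup G)) : G)) :
    ∃ j' : ZMod (2 ^ n), Mz n * j' = 0 ∧ ((SR x y j' : (S : Subgroup G)) : G) ∈ H := by
  have hn : H.Normal := Subgroup.normal_of_index_eq_two hH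
  have hMM := Mz_mul_Mz (n := n) h.n2
  refine ⟨-Mz n + j, by linear_combination hj - hMM, ?_⟩
  have e : ((SR x y (-Mz n + j) : (S : Subgroup G)) : G) =
      ((R x (Mz n) : (S : Subgroup G)) : G)⁻¹ * (g * ((R x (Mz n) : (S : Subgroup G)) : G) * g⁻¹) := by
    rw [hg, ← Subgroup.coe_inv, ← Subgroup.coe_mul, ← h.R_neg, h.R_mul_SR]
  rw [e, Subgroup.mul_mem_iff_of_index_two hH, inv_mem_iff]
  constructor
  · intro hz; exact hn.conj_mem _ hz g
  · intro hz
    have := hn.conj_mem _ hz g⁻¹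
    have e2 : g⁻¹ * (g * ((R x (Mz n) : (S : Subgroup G)) : G) * g⁻¹) * g⁻¹⁻¹ =
        ((R x (Mz n) : (S : Subgroup G)) : G) := by group
    rwa [e2] at this

theorem odd_mem_of_fused (H : Subgroup G) (hH : H.index = 2) {g : G} {j : ZMod (2 ^ n)}
    (hj : Mz n * j = Mz n)
    (hg : g * ((R x (Kz n) : (S : Subgroup G)) : G) * g⁻¹ = ((SR x y j : (S : Subgroup G)) : G)) :
    ∃ j' : ZMod (2 ^ n), Mz n * j' = Mz n ∧ ((SR x y j' : (S : Subgroup G)) : G) ∈ H := by
  have hn : H.Normal := Subgroup.normal_of_index_eq_two hH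
  have hMK := Mz_mul_Kz h.hn
  refine ⟨-Kz n + j, by linear_combination hj - hMK, ?_⟩
  have e : ((SR x y (-Kz n + j) : (S : Subgroup G)) : G) =
      ((R x (Kz n) : (S : Subgroup G)) : G)⁻¹ * (g * ((R x (Kz n) : (S : Subgroup G)) : G) * g⁻¹) := by
    rw [hg, ← Subgroup.coe_inv, ← Subgroup.coe_mul, ← h.R_neg, h.R_mul_SR]
  rw [e, Subgroup.mul_mem_iff_of_index_two hH, inv_mem_iff]
  constructor
  · intro hz; exact hn.conj_mem _ hz g
  · intro hz
    have := hn.conj_mem _ hz g⁻¹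
    have e2 : g⁻¹ * (g * ((R x (Kz n) : (S : Subgroup G)) : G) * g⁻¹) * g⁻¹⁻¹ =
        ((R x (Kz n) : (S : Subgroup G)) : G) := by group
    rwa [e2] at this

/-- a normal subgroup of `G` containing an odd and an even reflection contains `S` -/
theorem sylow_le_of_mem (H : Subgroup G) [H.Normal] {i j : ZMod (2 ^ n)}
    (hi : Mz n * i = Mz n) (hiH : ((SR x y i : (S : Subgroup G)) : G) ∈ H)
    (hj : Mz n * j = 0) (hjH : ((SR x y j : (S : Subgroup G)) : G) ∈ H) :
    (S : Subgroup G) ≤ H := by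
  have := h.normal_eq_top_of_mem (H.subgroupOf S) hi (Subgroup.mem_subgroupOf.mpr hiH) hj
    (Subgroup.mem_subgroupOf.mpr hjH)
  intro s hs
  have h1 : (⟨s, hs⟩ : (S : Subgroup G)) ∈ H.subgroupOf S := by rw [this]; trivial
  exact Subgroup.mem_subgroupOf.mp h1

omit h in
theorem not_sylow_le_of_index_two (H : Subgroup G) (hH : H.index = 2) :
    ¬ (S : Subgroup G) ≤ H := by
  intro hle
  have h1 : H.index ∣ (S : Subgroup G).index := Subgroup.index_dvd_of_le hle
  rw [hH] at h1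
  exact S.not_dvd_index h1

end Cfsg.Agent.Lib.Helper9.QD
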