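import Mathlib
import Cfsg.Agent.Lib.Helper9.QD.Fusion2

set_option autoImplicit false

/-!
# Quasi-dihedral Sylow 2-subgroups: both automizers of order 6
-/

namespace Cfsg.Agent.Lib.Helper9.QD

open Cfsg.Agent.Lib.Helper9

variable {G : Type*} [Group G] [Finite G]

/-- from `|N_G(T) : C_G(T)| = 6`: the central involution is fused to a non-central one -/
theorem exists_fused_z (S : Sylow 2 G) {n : ℕ} {x y : (S : Subgroup G)}
    (h : QDData (S : Subgroup G) n x y) (T : Subgroup G) (hT : IsKleinFour T) (hTS : T ≤ S)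
    (h₁ : (Subgroup.centralizer (T : Set G)).relIndex (Subgroup.normalizer (T : Set G)) = 6) :
    ∃ (g : G) (j : ZMod (2 ^ n)), Odd (orderOf g) ∧ g ∈ Subgroup.normalizer (T : Set G) ∧
      Mz n * j = 0 ∧
      g * ((R x (Mz n) : (S : Subgroup G)) : G) * g⁻¹ = ((SR x y j : (S : Subgroup G)) : G) := by
  obtain ⟨g, hgN, hodd, hgC⟩ := exists_odd_not_mem_of_relIndex_six _ _ h₁
  obtain ⟨j, hj, hg⟩ := klein_fusion h T hT hTS hgN hodd hgC
  exact ⟨g, j, hodd, hgN, hj, hg⟩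

/-- from `|N_G(Q) : Q C_G(Q)| = 6`: `x^K` is fused to an element of order 4 outside `⟨x⟩` -/
theorem exists_fused_c (S : Sylow 2 G) {n : ℕ} {x y : (S : Subgroup G)}
    (h : QDData (S : Subgroup G) n x y) (Q : Subgroup G) (hQS : Q ≤ S)
    (eQ : Q ≃* QuaternionGroup 2)
    (h₂ : (Q ⊔ Subgroup.centralizer (Q : Set G)).relIndex (Subgroup.normalizer (Q : Set G)) = 6) :
    ∃ (g : G) (j : ZMod (2 ^ n)), Odd (orderOf g) ∧ g ∈ Subgroup.normalizer (Q : Set G) ∧
      Mz n * j = Mz n ∧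
      g * ((R x (Kz n) : (S : Subgroup G)) : G) * g⁻¹ = ((SR x y j : (S : Subgroup G)) : G) := by
  obtain ⟨g, hgN, hodd, hgC⟩ := exists_odd_not_mem_of_relIndex_six _ _ h₂
  have hgC' : g ∉ Subgroup.centralizer (Q : Set G) := fun hc => hgC (Subgroup.mem_sup_right hc)
  obtain ⟨j, hj, hg⟩ := quat_fusion h Q hQS eQ hgN hodd hgC'
  exact ⟨g, j, hodd, hgN, hj, hg⟩

theorem main_six_six (S : Sylow 2 G) (hS : Cfsg.IsQuasiDihedral (S : Subgroup G))
    (T : Subgroup G) (hT : IsKleinFour T) (hTS : T ≤ S)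
    (Q : Subgroup G) (hQS : Q ≤ S) (eQ : Q ≃* QuaternionGroup 2)
    (h₁ : (Subgroup.centralizer (T : Set G)).relIndex (Subgroup.normalizer (T : Set G)) = 6)
    (h₂ : (Q ⊔ Subgroup.centralizer (Q : Set G)).relIndex (Subgroup.normalizer (Q : Set G)) = 6) :
    (∀ H : Subgroup G, H.index ≠ 2) ∧
    Nat.card {C : ConjClasses G // ∃ t : G, orderOf t = 2 ∧ ConjClasses.mk t = C} = 1 ∧
    Nat.card {C : ConjClasses G // ∃ t : G, orderOf t = 4 ∧ ConjClasses.mk t = C} = 1 := by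
  obtain ⟨n, x, y, h⟩ := exists_qdData hS
  obtain ⟨g₁, j₁, -, -, hj₁, hg₁⟩ := exists_fused_z S h T hT hTS h₁
  obtain ⟨g₂, j₂, -, -, hj₂, hg₂⟩ := exists_fused_c S h Q hQS eQ h₂
  refine ⟨?_, ?_, ?_⟩
  · intro H hH
    have hn : H.Normal := Subgroup.normal_of_index_eq_two hH
    obtain ⟨j', hj', hj'H⟩ := even_mem_of_fused S h H hH hj₁ hg₁
    obtain ⟨i', hi', hi'H⟩ := odd_mem_of_fused S h H hH hj₂ hg₂
    exact not_sylow_le_of_index_two S H hH (sylow_le_of_mem S h H hi' hi'H hj' hj'H)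
  · apply card_classes_eq_one 2 _ (orderOf_zG S h)
    intro t ht
    rcases involution_isConj S h t ht with h1 | h1
    · exact h1
    · exact (isConj_zG_yG_of_fused S h hj₁ hg₁).trans h1
  · apply card_classes_eq_one 4 _ (orderOf_cG S h)
    intro t ht
    rcases order4_isConj S h t ht with h1 | h1
    · exact h1
    · exact (isConj_cG_vG_of_fused S h hj₂ hg₂).trans h1

end Cfsg.Agent.Lib.Helper9.QD
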