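import Mathlib
import Cfsg.Agent.Lib.Helper9.QD.Case66
import Cfsg.Agent.Lib.Helper9.QD.Sylow
import Cfsg.Agent.Lib.Helper9.QD.MaxIso
import Cfsg.Agent.Lib.Helper9.FusionInv
import Cfsg.Agent.Lib.Helper9.IndexTwo
import Cfsg.Agent.S3225

set_option autoImplicit false
set_option linter.unusedSectionVars false

/-!
# Quasi-dihedral Sylow 2-subgroups: the mixed cases `(2,6)` and `(6,2)`
-/

namespace Cfsg.Agent.Lib.Helper9.QD

open Cfsg.Agent.Lib.Helper9

section Generic

variable {G : Type*} [Group G] [Finite G]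

theorem mem_zpowers_of_mul_self_eq_one {c d : G} (hc : c * c = 1) (hd : d ∈ Subgroup.zpowers c) :
    d = 1 ∨ d = c := by
  obtain ⟨k, rfl⟩ := Subgroup.mem_zpowers_iff.mp hd
  have h2 : c ^ (2 : ℤ) = 1 := by rw [zpow_two]; exact hc
  rcases Int.even_or_odd' k with ⟨m, rfl | rfl⟩
  · left
    rw [zpow_mul, h2, one_zpow]
  · right
    rw [zpow_add, zpow_mul, h2, one_zpow, one_mul, zpow_one]

/-- a four-group `T` with an automorphism of order three induced by `G` lies in every subgroup of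
relative index two of a subgroup of index two containing `T` -/
theorem klein_le_of_relIndex_two (T : Subgroup G) (hT : IsKleinFour T)
    (h₁ : (Subgroup.centralizer (T : Set G)).relIndex (Subgroup.normalizer (T : Set G)) = 6)
    (K : Subgroup G) (hK : K.index = 2) (hTK : T ≤ K) (H : Subgroup G)
    (hH : H.relIndex K = 2) : T ≤ H := by
  obtain ⟨g, hgN, hodd, hgC⟩ := exists_odd_not_mem_of_relIndex_six _ _ h₁
  have hgK : g ∈ K := IndexTwo.mem_of_odd K hK hodd
  have hgH : g ∈ H := mem_of_odd_of_relIndex_two H K hH hgK hodd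
  have hcard : Nat.card T = 4 := hT.card_four
  have hsq : ∀ t ∈ T, t * t = 1 := by
    intro t ht
    have h1 : (⟨t, ht⟩ : T) ^ 2 = 1 := by
      have := Monoid.pow_exponent_eq_one (⟨t, ht⟩ : T)
      rwa [hT.exponent_two] at this
    have h2 := congrArg Subtype.val h1
    simpa [pow_two] using h2
  have hstep : ∀ c ∈ T, c ≠ 1 → g * c * g⁻¹ ∈ T ∧ g * c * g⁻¹ ≠ c := by
    intro c hc hc1
    refine ⟨(Subgroup.mem_normalizer_iff.mp hgN c).mp hc, fun hz => hgC ?_⟩
    exact klein_centralizes_of_fix T hT hc hc1 hgN hodd hz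
  by_contra hcon
  obtain ⟨a, haT, haH⟩ := SetLike.not_le_iff_exists.mp hcon
  have ha1 : a ≠ 1 := fun h0 => haH (h0 ▸ H.one_mem)
  obtain ⟨hbT, hba⟩ := hstep a haT ha1
  have hbH : g * a * g⁻¹ ∉ H := by
    intro hbH
    apply haH
    have : a = g⁻¹ * (g * a * g⁻¹) * g := by group
    rw [this]; exact H.mul_mem (H.mul_mem (H.inv_mem hgH) hbH) hgH
  have habH : a * (g * a * g⁻¹) ∈ H :=
    (IndexTwo.mul_mem_iff_of_relIndex_two hH (hTK haT) (hTK hbT)).mpr
      ⟨fun h => absurd h haH, fun h => absurd h hbH⟩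
  have habT : a * (g * a * g⁻¹) ∈ T := T.mul_mem haT hbT
  have hab1 : a * (g * a * g⁻¹) ≠ 1 := by
    intro h1
    apply hba
    have h2 : g * a * g⁻¹ = a⁻¹ := eq_inv_of_mul_eq_one_right h1
    rw [h2]
    exact inv_eq_of_mul_eq_one_left (hsq a haT)
  obtain ⟨hdT, hdne⟩ := hstep _ habT hab1
  have hdH : g * (a * (g * a * g⁻¹)) * g⁻¹ ∈ H := H.mul_mem (H.mul_mem hgH habH) (H.inv_mem hgH)
  have hd1 : g * (a * (g * a * g⁻¹)) * g⁻¹ ≠ 1 := by
    intro h0
    apply hab1
    have : a * (g * a * g⁻¹) = g⁻¹ * (g * (a * (g * a * g⁻¹)) * g⁻¹) * g := by group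
    rw [this, h0]; group
  have hle1 : Subgroup.zpowers (a * (g * a * g⁻¹)) ≤ T ⊓ H := by
    rw [Subgroup.zpowers_le]; exact ⟨habT, habH⟩
  have hc1 : Nat.card (Subgroup.zpowers (a * (g * a * g⁻¹))) = 2 := by
    rw [Nat.card_zpowers]
    exact orderOf_eq_prime (by rw [pow_two]; exact hsq _ habT) hab1
  have hdz : g * (a * (g * a * g⁻¹)) * g⁻¹ ∉ Subgroup.zpowers (a * (g * a * g⁻¹)) := by
    intro hz
    rcases mem_zpowers_of_mul_self_eq_one (hsq _ habT) hz with h0 | h0
    · exact hd1 h0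
    · exact hdne h0
  have hdv1 : Nat.card (Subgroup.zpowers (a * (g * a * g⁻¹))) ∣ Nat.card (T ⊓ H : Subgroup G) :=
    Subgroup.card_dvd_of_le hle1
  have hdv2 : Nat.card (T ⊓ H : Subgroup G) ∣ Nat.card T := Subgroup.card_dvd_of_le inf_le_left
  rw [hc1] at hdv1
  rw [hcard] at hdv2
  obtain ⟨m, hm⟩ := hdv1
  have hk : Nat.card (T ⊓ H : Subgroup G) = 2 ∨ Nat.card (T ⊓ H : Subgroup G) = 4 := by
    have h8 : Nat.card (T ⊓ H : Subgroup G) ≤ 4 := Nat.le_of_dvd (by norm_num) hdv2
    have hm2 : m ≤ 2 := by omega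
    interval_cases m
    · rw [hm] at hdv2; simp at hdv2
    · left; omega
    · right; omega
  rcases hk with hk | hk
  · have : Subgroup.zpowers (a * (g * a * g⁻¹)) = T ⊓ H :=
      Subgroup.eq_of_le_of_card_ge hle1 (by rw [hc1, hk])
    apply hdz; rw [this]; exact ⟨hdT, hdH⟩
  · have : T ⊓ H = T := Subgroup.eq_of_le_of_card_ge inf_le_left (by rw [hcard, hk])
    apply haH
    have : a ∈ T ⊓ H := by rw [this]; exact haT
    exact this.2

end Generic

section SLevel

variable {S : Type*} [Group S] {n : ℕ} {x y : S}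

theorem Mz_mul_of_four_mul (hn : 3 ≤ n) {d : ZMod (2 ^ n)} (hd : 4 * d = 0) : Mz n * d = 0 := by
  have hMM := Mz_mul_Mz (n := n) (by omega)
  have hMK := Mz_mul_Kz hn
  rcases eq_of_four_mul (by omega) hd with rfl | rfl | rfl | rfl
  · ring
  · exact hMK
  · exact hMM
  · linear_combination hMM + hMK

namespace QDData

variable (h : QDData S n x y)
include h

/-- every `Q₈`-subgroup lies in the quaternion maximal subgroup -/
theorem quat_le_M2 [Finite S] (Q : Subgroup S) (e : Q ≃* QuaternionGroup 2) : Q ≤ h.M2 := by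
  obtain ⟨i, hi, hQ⟩ := h.quat_mem_iff Q e
  intro a ha
  rcases (hQ a).mp ha with ⟨d, hd, rfl⟩ | ⟨d, hd, rfl⟩
  · exact h.R_mem_Mc.mpr (Mz_mul_of_four_mul h.hn hd)
  · exact h.SR_mem_Mc.mpr (by linear_combination hi + Mz_mul_of_four_mul h.hn hd)

/-- every four-subgroup lies in the dihedral maximal subgroup -/
theorem klein_le_M3 [Finite S] (T : Subgroup S) (hT : IsKleinFour T) : T ≤ h.M3 := by
  obtain ⟨i, hi, hTi⟩ := h.klein_eq T hT
  have hMM := Mz_mul_Mz (n := n) h.n2
  intro a ha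
  rw [hTi, h.mem_centralizer_SR] at ha
  rcases ha with rfl | rfl | rfl | rfl
  · exact Subgroup.one_mem _
  · exact h.R_mem_Mc.mpr hMM
  · exact h.SR_mem_Mc.mpr hi
  · exact h.SR_mem_Mc.mpr (by linear_combination hi + hMM)

end QDData

end SLevel

universe u

variable {G : Type u} [Group G] [Finite G]

/-- if the four-groups have automizer of order two, the central involution of `S` is fixed by every
conjugation keeping it in `S` -/
theorem z_fixed_of_klein_two (S : Sylow 2 G) {n : ℕ} {x y : (S : Subgroup G)}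
    (h : QDData (S : Subgroup G) n x y) (T : Subgroup G) (hT : IsKleinFour T) (hTS : T ≤ S)
    (h₁ : (Subgroup.centralizer (T : Set G)).relIndex (Subgroup.normalizer (T : Set G)) = 2)
    (g : G) (hg : g * ((R x (Mz n) : (S : Subgroup G)) : G) * g⁻¹ ∈ (S : Subgroup G)) :
    g * ((R x (Mz n) : (S : Subgroup G)) : G) * g⁻¹ = ((R x (Mz n) : (S : Subgroup G)) : G) := by
  have : Fact (Nat.Prime 2) := ⟨Nat.prime_two⟩
  refine fusion_invariant' S (fun a => a = ((R x (Mz n) : (S : Subgroup G)) : G)) ?_ ?_ _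
    (SetLike.coe_mem _) g hg rfl
  · intro s hs a _ ha
    rw [ha]
    have h1 := h.z_central ⟨s, hs⟩
    have h2 := congrArg Subtype.val h1
    simpa using h2
  · intro U hUS _ _ g' hgN hcop a haU ha
    have hodd : Odd (orderOf g') := Nat.coprime_two_right.mp hcop
    have hcent : g' ∈ Subgroup.centralizer (U : Set G) →
        g' * a * g'⁻¹ = ((R x (Mz n) : (S : Subgroup G)) : G) := by
      intro hgC
      have h1 := Subgroup.mem_centralizer_iff.mp hgC a haU
      rw [← h1, mul_inv_cancel_right, ha]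
    rcases h.subgroup_trichotomy (U.subgroupOf S) with hK | ⟨⟨e⟩⟩ | hA
    · apply hcent
      have hK' : IsKleinFour U := isKleinFour_of_subgroupOf hUS hK
      have h3 := klein_relIndex_eq S h T U hT hTS hK' hUS
      rw [h₁] at h3
      exact mem_of_odd_of_relIndex_two _ _ h3 hgN hodd
    · obtain ⟨i, hi, hQ'⟩ := h.quat_mem_iff (U.subgroupOf S) e
      have hb : g' * a * g'⁻¹ ∈ U := (Subgroup.mem_normalizer_iff.mp hgN a).mp haU
      have hbo : orderOf (⟨g' * a * g'⁻¹, hUS hb⟩ : (S : Subgroup G)) = 2 := by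
        rw [← Subgroup.orderOf_coe]
        simp only
        have h1 : orderOf (g' * a * g'⁻¹) = orderOf a := (MulAut.conj g').orderOf_eq a
        rw [h1, ha]
        exact orderOf_zG S h
      have hin : InQ x y i (⟨g' * a * g'⁻¹, hUS hb⟩ : (S : Subgroup G)) := by
        rw [← hQ', Subgroup.mem_subgroupOf]; exact hb
      rcases hin with ⟨d, hd, hbd⟩ | ⟨d, hd, hbd⟩
      · rw [hbd, h.orderOf_R_eq_two] at hbo
        have h1 := congrArg Subtype.val hbd
        simp only at h1
        rw [h1, hbo]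
      · exfalso
        rw [hbd, h.orderOf_SR_eq_two] at hbo
        have hMd := Mz_mul_of_four_mul h.hn hd
        apply Mz_ne_zero (n := n) h.n1
        linear_combination hbo - hi - hMd
    · apply hcent
      exact mem_centralizer_of_isPGroup_mulAut U (isPGroup_mulAut_of_subgroupOf hUS hA) hgN hcop

/-- if the quaternion subgroups have outer automizer of order two, the elements `x^{±K}` form a
union of `G`-classes in `S` -/
theorem c_fixed_of_quat_two (S : Sylow 2 G) {n : ℕ} {x y : (S : Subgroup G)}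
    (h : QDData (S : Subgroup G) n x y) (Q : Subgroup G) (hQS : Q ≤ S)
    (eQ : Q ≃* QuaternionGroup 2)
    (h₂ : (Q ⊔ Subgroup.centralizer (Q : Set G)).relIndex (Subgroup.normalizer (Q : Set G)) = 2)
    (g : G) (hg : g * ((R x (Kz n) : (S : Subgroup G)) : G) * g⁻¹ ∈ (S : Subgroup G)) :
    g * ((R x (Kz n) : (S : Subgroup G)) : G) * g⁻¹ = ((R x (Kz n) : (S : Subgroup G)) : G) ∨
    g * ((R x (Kz n) : (S : Subgroup G)) : G) * g⁻¹ = ((R x (Kz n) : (S : Subgroup G)) : G)⁻¹ := by
  have : Fact (Nat.Prime 2) := ⟨Nat.prime_two⟩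
  have hMK := Mz_mul_Kz h.hn
  have hc4 : orderOf ((R x (Kz n) : (S : Subgroup G)) : G) = 4 := orderOf_cG S h
  have hcS : ((R x (Kz n) : (S : Subgroup G)) : G) ∈ (S : Subgroup G) := SetLike.coe_mem _
  have hSc : ∀ s ∈ (S : Subgroup G),
      s * ((R x (Kz n) : (S : Subgroup G)) : G) * s⁻¹ = ((R x (Kz n) : (S : Subgroup G)) : G) ∨
      s * ((R x (Kz n) : (S : Subgroup G)) : G) * s⁻¹ =
        ((R x (Kz n) : (S : Subgroup G)) : G)⁻¹ := by
    intro s hs
    rcases h.cases ⟨s, hs⟩ with ⟨a', ha'⟩ | ⟨j, hj⟩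
    · left
      have h1 := h.conj_R_R a' (Kz n)
      rw [← ha'] at h1
      have h2 := congrArg Subtype.val h1
      simpa using h2
    · right
      have h1 := h.conj_SR_R j (Kz n)
      rw [← hj] at h1
      have e : rho n * Kz n = - Kz n := by unfold rho; linear_combination hMK
      rw [e, h.R_neg] at h1
      have h2 := congrArg Subtype.val h1
      simpa using h2
  generalize ((R x (Kz n) : (S : Subgroup G)) : G) = c at *
  refine fusion_invariant' S (fun a => a = c ∨ a = c⁻¹) ?_ ?_ c hcS g hg (Or.inl rfl)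
  · intro s hs a _ ha
    rcases ha with rfl | rfl
    · exact hSc s hs
    · have e : s * c⁻¹ * s⁻¹ = (s * c * s⁻¹)⁻¹ := by group
      rw [e]
      rcases hSc s hs with h1 | h1
      · right; rw [h1]
      · left; rw [h1, inv_inv]
  · intro U hUS _ _ g' hgN hcop a haU ha
    have hodd : Odd (orderOf g') := Nat.coprime_two_right.mp hcop
    have hcU : c ∈ U := by
      rcases ha with rfl | rfl
      · exact haU
      · have := U.inv_mem haU
        rwa [inv_inv] at this
    have hcent : g' ∈ Subgroup.centralizer (U : Set G) →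
        (g' * a * g'⁻¹ = c ∨ g' * a * g'⁻¹ = c⁻¹) := by
      intro hgC
      have h1 := Subgroup.mem_centralizer_iff.mp hgC a haU
      rw [← h1, mul_inv_cancel_right]
      exact ha
    rcases h.subgroup_trichotomy (U.subgroupOf S) with hK | ⟨⟨e⟩⟩ | hA
    · exfalso
      have hK' : IsKleinFour U := isKleinFour_of_subgroupOf hUS hK
      have h1 : (⟨c, hcU⟩ : U) ^ 2 = 1 := by
        have := Monoid.pow_exponent_eq_one (⟨c, hcU⟩ : U)
        rwa [hK'.exponent_two] at this
      have h2 : c ^ 2 = 1 := by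
        have := congrArg Subtype.val h1
        simpa using this
      have h3 := orderOf_dvd_of_pow_eq_one h2
      rw [hc4] at h3
      omega
    · apply hcent
      have e' : U ≃* QuaternionGroup 2 := (Subgroup.subgroupOfEquivOfLe hUS).symm.trans e
      have h3 := quat_relIndex_eq S h Q U hQS eQ hUS e'
      rw [h₂] at h3
      have h4 : g' ∈ U ⊔ Subgroup.centralizer (U : Set G) :=
        mem_of_odd_of_relIndex_two _ _ h3 hgN hodd
      exact mem_centralizer_of_mem_sup_centralizer U (S.2.to_le hUS) h4 hcop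
    · apply hcent
      exact mem_centralizer_of_isPGroup_mulAut U (isPGroup_mulAut_of_subgroupOf hUS hA) hgN hcop

theorem not_isConj_zG_yG (S : Sylow 2 G) {n : ℕ} {x y : (S : Subgroup G)}
    (h : QDData (S : Subgroup G) n x y) (T : Subgroup G) (hT : IsKleinFour T) (hTS : T ≤ S)
    (h₁ : (Subgroup.centralizer (T : Set G)).relIndex (Subgroup.normalizer (T : Set G)) = 2) :
    ¬ IsConj ((R x (Mz n) : (S : Subgroup G)) : G)
      ((SR x y (0 : ZMod (2 ^ n)) : (S : Subgroup G)) : G) := by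
  intro hc
  obtain ⟨g, hg⟩ := isConj_iff.mp hc
  have h1 := z_fixed_of_klein_two S h T hT hTS h₁ g (by rw [hg]; exact SetLike.coe_mem _)
  rw [hg] at h1
  exact h.R_ne_SR _ _ (Subtype.ext h1).symm

theorem not_isConj_cG_vG (S : Sylow 2 G) {n : ℕ} {x y : (S : Subgroup G)}
    (h : QDData (S : Subgroup G) n x y) (Q : Subgroup G) (hQS : Q ≤ S)
    (eQ : Q ≃* QuaternionGroup 2)
    (h₂ : (Q ⊔ Subgroup.centralizer (Q : Set G)).relIndex (Subgroup.normalizer (Q : Set G)) = 2) :
    ¬ IsConj ((R x (Kz n) : (S : Subgroup G)) : G)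
      ((SR x y (1 : ZMod (2 ^ n)) : (S : Subgroup G)) : G) := by
  intro hc
  obtain ⟨g, hg⟩ := isConj_iff.mp hc
  have h1 := c_fixed_of_quat_two S h Q hQS eQ h₂ g (by rw [hg]; exact SetLike.coe_mem _)
  rw [hg] at h1
  rcases h1 with h1 | h1
  · exact h.R_ne_SR _ _ (Subtype.ext h1).symm
  · rw [← Subgroup.coe_inv, ← h.R_neg] at h1
    exact h.R_ne_SR _ _ (Subtype.ext h1).symm

end Cfsg.Agent.Lib.Helper9.QD
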