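import Mathlib
import Cfsg.Agent.Lib.Helper9.QD.Case26

set_option autoImplicit false
set_option linter.unusedSectionVars false

/-!
# Quasi-dihedral Sylow 2-subgroups: the mixed cases `(2,6)` and `(6,2)`, main theorems
-/

namespace Cfsg.Agent.Lib.Helper9.QD

open Cfsg.Agent.Lib.Helper9

universe u

variable {G : Type u} [Group G] [Finite G]

/-- a quaternion subgroup `Q` of `S` with an automorphism of order three induced by `G` lies in
every subgroup of relative index two of a subgroup of index two containing `Q` -/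
theorem quat_le_of_relIndex_two (S : Sylow 2 G) {n : ℕ} {x y : (S : Subgroup G)}
    (h : QDData (S : Subgroup G) n x y) (Q : Subgroup G) (hQS : Q ≤ S)
    (eQ : Q ≃* QuaternionGroup 2)
    (h₂ : (Q ⊔ Subgroup.centralizer (Q : Set G)).relIndex (Subgroup.normalizer (Q : Set G)) = 6)
    (K : Subgroup G) (hK : K.index = 2) (hQK : Q ≤ K) (H : Subgroup G)
    (hH : H.relIndex K = 2) : Q ≤ H := by
  have hM := two_mul_Mz (n := n) h.n1
  have hKz := two_mul_Kz (n := n) h.n2
  obtain ⟨g, hgN, hodd, hgC0⟩ := exists_odd_not_mem_of_relIndex_six _ _ h₂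
  have hgC : g ∉ Subgroup.centralizer (Q : Set G) := fun hc => hgC0 (Subgroup.mem_sup_right hc)
  have hgK : g ∈ K := IndexTwo.mem_of_odd K hK hodd
  have hgH : g ∈ H := mem_of_odd_of_relIndex_two H K hH hgK hodd
  have hcard : Nat.card Q = 8 := card_of_equiv_quaternion eQ
  obtain ⟨i, hi, hQ'⟩ := h.quat_mem_iff (Q.subgroupOf S)
    ((Subgroup.subgroupOfEquivOfLe hQS).trans eQ)
  have hmem : ∀ a : (S : Subgroup G), (a : G) ∈ Q ↔ InQ x y i a := by
    intro a
    rw [← hQ', Subgroup.mem_subgroupOf]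
  -- every element of `Q` is `1`, `z`, or of order four with square `z`
  have hP : ∀ a ∈ Q, a = 1 ∨ a = ((R x (Mz n) : (S : Subgroup G)) : G) ∨
      (orderOf a = 4 ∧ a * a = ((R x (Mz n) : (S : Subgroup G)) : G)) := by
    intro a ha
    rcases (hmem ⟨a, hQS ha⟩).mp ha with ⟨d, hd, had⟩ | ⟨d, hd, had⟩
    · have had' : a = ((R x d : (S : Subgroup G)) : G) := congrArg Subtype.val had
      rcases eq_of_four_mul h.n2 hd with rfl | rfl | rfl | rfl
      · left; rw [had', QDData.R_zero]; rfl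
      · right; right; rw [had']
        refine ⟨by rw [Subgroup.orderOf_coe, h.orderOf_RK], ?_⟩
        rw [← Subgroup.coe_mul, ← h.R_add]
        congr 2
        linear_combination hKz
      · right; left; exact had'
      · right; right; rw [had']
        refine ⟨?_, ?_⟩
        · rw [Subgroup.orderOf_coe]; exact h.orderOf_R_eq_four.mpr (Or.inr rfl)
        · rw [← Subgroup.coe_mul, ← h.R_add]
          congr 2
          linear_combination hM + hKz
    · have had' : a = ((SR x y (i + d) : (S : Subgroup G)) : G) := congrArg Subtype.val had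
      right; right; rw [had']
      have hid : Mz n * (i + d) = Mz n := by
        linear_combination hi + Mz_mul_of_four_mul h.hn hd
      refine ⟨by rw [Subgroup.orderOf_coe]; exact h.orderOf_SR_eq_four.mpr hid, ?_⟩
      rw [← Subgroup.coe_mul, h.SR_mul_self, hid]
  have hzH : ((R x (Mz n) : (S : Subgroup G)) : G) ∈ H := by
    have hcQ : ((R x (Kz n) : (S : Subgroup G)) : G) ∈ Q := (hmem _).mpr (h.inQ_RK i)
    have h1 : ((R x (Kz n) : (S : Subgroup G)) : G) * ((R x (Kz n) : (S : Subgroup G)) : G) ∈ H :=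
      (IndexTwo.mul_mem_iff_of_relIndex_two hH (hQK hcQ) (hQK hcQ)).mpr Iff.rfl
    have e : ((R x (Kz n) : (S : Subgroup G)) : G) * ((R x (Kz n) : (S : Subgroup G)) : G) =
        ((R x (Mz n) : (S : Subgroup G)) : G) := by
      rw [← Subgroup.coe_mul, ← h.R_add]
      congr 2
      linear_combination hKz
    rwa [e] at h1
  by_contra hcon
  obtain ⟨a, haQ, haH⟩ := SetLike.not_le_iff_exists.mp hcon
  have ha4 : orderOf a = 4 ∧ a * a = ((R x (Mz n) : (S : Subgroup G)) : G) := by
    rcases hP a haQ with h0 | h0 | h4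
    · exact absurd (h0 ▸ H.one_mem) haH
    · exact absurd (h0 ▸ hzH) haH
    · exact h4
  have hstep : ∀ c ∈ Q, orderOf c = 4 →
      g * c * g⁻¹ ∈ Q ∧ g * c * g⁻¹ ∉ Subgroup.zpowers c := by
    intro c hc hc4
    refine ⟨(Subgroup.mem_normalizer_iff.mp hgN c).mp hc, fun hz => hgC ?_⟩
    exact quat_centralizes_of_normalizes Q hcard hc hc4 hgN hodd hz
  obtain ⟨hbQ, hbz⟩ := hstep a haQ ha4.1
  have hbH : g * a * g⁻¹ ∉ H := by
    intro hbH
    apply haH
    have : a = g⁻¹ * (g * a * g⁻¹) * g := by group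
    rw [this]; exact H.mul_mem (H.mul_mem (H.inv_mem hgH) hbH) hgH
  have habH : a * (g * a * g⁻¹) ∈ H :=
    (IndexTwo.mul_mem_iff_of_relIndex_two hH (hQK haQ) (hQK hbQ)).mpr
      ⟨fun h => absurd h haH, fun h => absurd h hbH⟩
  have habQ : a * (g * a * g⁻¹) ∈ Q := Q.mul_mem haQ hbQ
  have hab4 : orderOf (a * (g * a * g⁻¹)) = 4 := by
    rcases hP _ habQ with h1 | h1 | h1
    · exfalso; apply hbz
      have h2 : g * a * g⁻¹ = a⁻¹ := eq_inv_of_mul_eq_one_right h1
      rw [h2]; exact Subgroup.inv_mem _ (Subgroup.mem_zpowers a)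
    · exfalso; apply hbz
      have h2 : g * a * g⁻¹ = a := mul_left_cancel (h1.trans ha4.2.symm)
      rw [h2]; exact Subgroup.mem_zpowers a
    · exact h1.1
  obtain ⟨hdQ, hdz⟩ := hstep _ habQ hab4
  have hdH : g * (a * (g * a * g⁻¹)) * g⁻¹ ∈ H := H.mul_mem (H.mul_mem hgH habH) (H.inv_mem hgH)
  have hle1 : Subgroup.zpowers (a * (g * a * g⁻¹)) ≤ Q ⊓ H := by
    rw [Subgroup.zpowers_le]; exact ⟨habQ, habH⟩
  have hc1 : Nat.card (Subgroup.zpowers (a * (g * a * g⁻¹))) = 4 := by
    rw [Nat.card_zpowers, hab4]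
  have hdv1 : Nat.card (Subgroup.zpowers (a * (g * a * g⁻¹))) ∣ Nat.card (Q ⊓ H : Subgroup G) :=
    Subgroup.card_dvd_of_le hle1
  have hdv2 : Nat.card (Q ⊓ H : Subgroup G) ∣ Nat.card Q := Subgroup.card_dvd_of_le inf_le_left
  rw [hc1] at hdv1
  rw [hcard] at hdv2
  obtain ⟨m, hm⟩ := hdv1
  have hk : Nat.card (Q ⊓ H : Subgroup G) = 4 ∨ Nat.card (Q ⊓ H : Subgroup G) = 8 := by
    have h8 : Nat.card (Q ⊓ H : Subgroup G) ≤ 8 := Nat.le_of_dvd (by norm_num) hdv2
    have hm2 : m ≤ 2 := by omega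
    interval_cases m
    · rw [hm] at hdv2; simp at hdv2
    · left; omega
    · right; omega
  rcases hk with hk | hk
  · have : Subgroup.zpowers (a * (g * a * g⁻¹)) = Q ⊓ H :=
      Subgroup.eq_of_le_of_card_ge hle1 (by rw [hc1, hk])
    apply hdz; rw [this]; exact ⟨hdQ, hdH⟩
  · have : Q ⊓ H = Q := Subgroup.eq_of_le_of_card_ge inf_le_left (by rw [hcard, hk])
    apply haH
    have : a ∈ Q ⊓ H := by rw [this]; exact haQ
    exact this.2

/-- Thompson transfer: if `z` is not fused to `y`, `G` has a subgroup of index two -/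
theorem exists_index_two_of_not_fused_z (S : Sylow 2 G) {n : ℕ} {x y : (S : Subgroup G)}
    (h : QDData (S : Subgroup G) n x y)
    (hnc : ¬ IsConj ((R x (Mz n) : (S : Subgroup G)) : G)
      ((SR x y (0 : ZMod (2 ^ n)) : (S : Subgroup G)) : G)) :
    ∃ K : Subgroup G, K.index = 2 := by
  by_contra hcon
  push Not at hcon
  have hev : Even (Nat.card G) := by
    have h1 : Nat.card (S : Subgroup G) ∣ Nat.card G := Subgroup.card_subgroup_dvd_card _
    rw [h.card] at h1
    exact even_iff_two_dvd.mpr (dvd_trans (dvd_pow_self 2 (by omega)) h1)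
  have hMS : (Subgroup.zpowers x).map (S : Subgroup G).subtype ≤ (S : Subgroup G) :=
    Subgroup.map_subtype_le _
  have hMi : ((Subgroup.zpowers x).map (S : Subgroup G).subtype).relIndex (S : Subgroup G) = 2 := by
    rw [IndexTwo.relIndex_map_subtype, h.index_zpowers]
  have hord : ∀ y' ∈ (S : Subgroup G), y' ∉ (Subgroup.zpowers x).map (S : Subgroup G).subtype →
      2 ^ (1 - 1) < orderOf y' := by
    intro y' _ hy'
    have h1 : y' ≠ 1 := fun h0 => hy' (h0 ▸ Subgroup.one_mem _)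
    have h2 : orderOf y' ≠ 1 := fun h0 => h1 (orderOf_eq_one_iff.mp h0)
    have h3 : 0 < orderOf y' := orderOf_pos y'
    simp only [Nat.sub_self, pow_zero]; omega
  obtain ⟨g, hg⟩ := Cfsg.Agent.S3225.result hev hcon S _ hMS hMi 1 le_rfl hord
    ((SR x y (0 : ZMod (2 ^ n)) : (S : Subgroup G)) : G) (SetLike.coe_mem _)
    (by rw [pow_one]; exact orderOf_yG S h)
  obtain ⟨r, hr, hrg⟩ := hg
  obtain ⟨i, rfl⟩ := h.mem_zpowers_iff.mp hr
  have hrg' : ((R x i : (S : Subgroup G)) : G) =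
      g * ((SR x y (0 : ZMod (2 ^ n)) : (S : Subgroup G)) : G) * g⁻¹ := hrg
  have ho : orderOf (R x i : (S : Subgroup G)) = 2 := by
    rw [← Subgroup.orderOf_coe, hrg']
    have h1 : orderOf (g * ((SR x y (0 : ZMod (2 ^ n)) : (S : Subgroup G)) : G) * g⁻¹) =
        orderOf ((SR x y (0 : ZMod (2 ^ n)) : (S : Subgroup G)) : G) := (MulAut.conj g).orderOf_eq _
    rw [h1, orderOf_yG S h]
  rw [h.orderOf_R_eq_two] at ho
  subst ho
  apply hnc
  exact (isConj_iff.mpr ⟨g, hrg'.symm⟩).symm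

/-- Thompson transfer: if `x^K` is not fused to `xy`, `G` has a subgroup of index two -/
theorem exists_index_two_of_not_fused_c (S : Sylow 2 G) {n : ℕ} {x y : (S : Subgroup G)}
    (h : QDData (S : Subgroup G) n x y)
    (hnc : ¬ IsConj ((R x (Kz n) : (S : Subgroup G)) : G)
      ((SR x y (1 : ZMod (2 ^ n)) : (S : Subgroup G)) : G)) :
    ∃ K : Subgroup G, K.index = 2 := by
  by_contra hcon
  push Not at hcon
  have hev : Even (Nat.card G) := by
    have h1 : Nat.card (S : Subgroup G) ∣ Nat.card G := Subgroup.card_subgroup_dvd_card _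
    rw [h.card] at h1
    exact even_iff_two_dvd.mpr (dvd_trans (dvd_pow_self 2 (by omega)) h1)
  have hMS : (h.M3).map (S : Subgroup G).subtype ≤ (S : Subgroup G) :=
    Subgroup.map_subtype_le _
  have hMi : ((h.M3).map (S : Subgroup G).subtype).relIndex (S : Subgroup G) = 2 := by
    rw [IndexTwo.relIndex_map_subtype]; exact h.index_Mc _ _
  have hord : ∀ y' ∈ (S : Subgroup G), y' ∉ (h.M3).map (S : Subgroup G).subtype →
      2 ^ (2 - 1) < orderOf y' := by
    intro y' hy'S hy'
    have hy'3 : (⟨y', hy'S⟩ : (S : Subgroup G)) ∉ h.M3 := fun hm => hy' ⟨_, hm, rfl⟩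
    have ho : orderOf y' = orderOf (⟨y', hy'S⟩ : (S : Subgroup G)) := by
      rw [← Subgroup.orderOf_coe]
    rw [ho]
    rcases h.cases ⟨y', hy'S⟩ with ⟨i, hi⟩ | ⟨i, hi⟩
    · rw [hi] at hy'3 ⊢
      have hi' : Mz n * i = Mz n := by
        rcases Mz_mul_cases h.n1 i with h0 | h0
        · exact absurd ((h.R_mem_Mc (c := 0) (hc := mul_zero _)).mpr h0) hy'3
        · exact h0
      rw [h.orderOf_R_odd hi']
      have hn := h.hn
      exact Nat.pow_lt_pow_right (by norm_num) (by omega)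
    · rw [hi] at hy'3 ⊢
      have hi' : Mz n * i = Mz n := by
        rcases Mz_mul_cases h.n1 i with h0 | h0
        · exact absurd ((h.SR_mem_Mc (c := 0) (hc := mul_zero _)).mpr h0) hy'3
        · exact h0
      rw [h.orderOf_SR_eq_four.mpr hi']
      norm_num
  obtain ⟨g, hg⟩ := Cfsg.Agent.S3225.result hev hcon S _ hMS hMi 2 (by norm_num) hord
    ((SR x y (1 : ZMod (2 ^ n)) : (S : Subgroup G)) : G) (SetLike.coe_mem _)
    (by rw [show (2 : ℕ) ^ 2 = 4 by norm_num]; exact orderOf_vG S h)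
  obtain ⟨r, hr, hrg⟩ := hg
  have hrg' : (r : G) =
      g * ((SR x y (1 : ZMod (2 ^ n)) : (S : Subgroup G)) : G) * g⁻¹ := hrg
  have ho : orderOf r = 4 := by
    rw [← Subgroup.orderOf_coe, hrg']
    have h1 : orderOf (g * ((SR x y (1 : ZMod (2 ^ n)) : (S : Subgroup G)) : G) * g⁻¹) =
        orderOf ((SR x y (1 : ZMod (2 ^ n)) : (S : Subgroup G)) : G) := (MulAut.conj g).orderOf_eq _
    rw [h1, orderOf_vG S h]
  apply hnc
  have hconj : IsConj ((SR x y (1 : ZMod (2 ^ n)) : (S : Subgroup G)) : G) (r : G) :=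
    isConj_iff.mpr ⟨g, hrg'.symm⟩
  rcases (h.mem_Mc (c := 0) (hc := mul_zero _)).mp hr with ⟨i, hi, rfl⟩ | ⟨i, hi, rfl⟩
  · rcases h.orderOf_R_eq_four.mp ho with rfl | rfl
    · exact hconj.symm
    · exact (isConj_coe h.isConj_R_K).trans hconj.symm
  · exfalso
    have := h.orderOf_SR_eq_two.mpr hi
    omega

/-- the intersection of `S` with a subgroup of index two containing an odd reflection -/
theorem subgroupOf_eq_M2 (S : Sylow 2 G) {n : ℕ} {x y : (S : Subgroup G)}
    (h : QDData (S : Subgroup G) n x y) (K : Subgroup G) (hK : K.index = 2)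
    {j : ZMod (2 ^ n)} (hj : Mz n * j = Mz n) (hjK : ((SR x y j : (S : Subgroup G)) : G) ∈ K) :
    K.subgroupOf (S : Subgroup G) = h.M2 := by
  have hidx : (K.subgroupOf (S : Subgroup G)).index = 2 := IndexTwo.relIndex_sylow S K hK
  have hco : IsCoatom (K.subgroupOf (S : Subgroup G)) :=
    isCoatom_of_index_prime _ Nat.prime_two hidx
  have hmem : SR x y j ∈ K.subgroupOf (S : Subgroup G) := Subgroup.mem_subgroupOf.mpr hjK
  rcases h.coatom_cases _ hco with h1 | h1 | h1
  · exfalso; rw [h1] at hmem; exact h.SR_not_mem j hmem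
  · exact h1
  · exfalso; rw [h1] at hmem
    have h0 := (h.SR_mem_Mc (c := 0) (hc := mul_zero _)).mp hmem
    exact Mz_ne_zero h.n1 (by rw [← hj, h0])

/-- the intersection of `S` with a subgroup of index two containing an even reflection -/
theorem subgroupOf_eq_M3 (S : Sylow 2 G) {n : ℕ} {x y : (S : Subgroup G)}
    (h : QDData (S : Subgroup G) n x y) (K : Subgroup G) (hK : K.index = 2)
    {j : ZMod (2 ^ n)} (hj : Mz n * j = 0) (hjK : ((SR x y j : (S : Subgroup G)) : G) ∈ K) :
    K.subgroupOf (S : Subgroup G) = h.M3 := by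
  have hidx : (K.subgroupOf (S : Subgroup G)).index = 2 := IndexTwo.relIndex_sylow S K hK
  have hco : IsCoatom (K.subgroupOf (S : Subgroup G)) :=
    isCoatom_of_index_prime _ Nat.prime_two hidx
  have hmem : SR x y j ∈ K.subgroupOf (S : Subgroup G) := Subgroup.mem_subgroupOf.mpr hjK
  rcases h.coatom_cases _ hco with h1 | h1 | h1
  · exfalso; rw [h1] at hmem; exact h.SR_not_mem j hmem
  · exfalso; rw [h1] at hmem
    have h0 := (h.SR_mem_Mc (c := Mz n) (hc := two_mul_Mz h.n1)).mp hmem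
    exact Mz_ne_zero h.n1 (by rw [← h0, hj])
  · exact h1

end Cfsg.Agent.Lib.Helper9.QD
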