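import Mathlib
import Cfsg.Agent.Lib.Helper9.QD.Case26b

set_option autoImplicit false
set_option linter.unusedSectionVars false

/-!
# Quasi-dihedral Sylow 2-subgroups: the mixed cases `(2,6)` and `(6,2)`, main theorems
-/

namespace Cfsg.Agent.Lib.Helper9.QD

open Cfsg.Agent.Lib.Helper9

universe u

variable {G : Type u} [Group G] [Finite G]

theorem sylow_inf_le_of_quat (S : Sylow 2 G) {n : ℕ} {x y : (S : Subgroup G)}
    (h : QDData (S : Subgroup G) n x y) (Q : Subgroup G) (hQS : Q ≤ S)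
    (eQ : Q ≃* QuaternionGroup 2)
    (h₂ : (Q ⊔ Subgroup.centralizer (Q : Set G)).relIndex (Subgroup.normalizer (Q : Set G)) = 6)
    (K : Subgroup G) (hK : K.index = 2) (hKS : K.subgroupOf (S : Subgroup G) = h.M2)
    (H : Subgroup G) (hH : H.relIndex K = 2) : (S : Subgroup G) ⊓ K ≤ H := by
  have hM := two_mul_Mz (n := n) h.n1
  have hMM := Mz_mul_Mz (n := n) h.n2
  have hoddH : ∀ i : ZMod (2 ^ n), Mz n * i = Mz n → ((SR x y i : (S : Subgroup G)) : G) ∈ H := by
    intro i hi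
    obtain ⟨i₀, hi₀, hQ'⟩ := h.quat_mem_iff (Q.subgroupOf S)
      ((Subgroup.subgroupOfEquivOfLe hQS).trans eQ)
    obtain ⟨b, hb⟩ := (Mz_mul_eq_zero_iff h.n1 (i - i₀)).mp (by linear_combination hi - hi₀)
    have hQ'S : Q.map (MulAut.conj ((R x ((1 + Kz n) * b) : (S : Subgroup G)) : G)).toMonoidHom ≤
        (S : Subgroup G) := by
      rintro _ ⟨q, hq, rfl⟩
      simp only [MulEquiv.toMonoidHom_eq_coe, MonoidHom.coe_coe, MulAut.conj_apply]
      exact (S : Subgroup G).mul_mem ((S : Subgroup G).mul_mem (SetLike.coe_mem _) (hQS hq))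
        ((S : Subgroup G).inv_mem (SetLike.coe_mem _))
    have eQ' : Q.map (MulAut.conj ((R x ((1 + Kz n) * b) : (S : Subgroup G)) : G)).toMonoidHom ≃*
        QuaternionGroup 2 :=
      (Q.equivMapOfInjective _ (MulAut.conj _).injective).symm.trans eQ
    have h3 := quat_relIndex_eq S h Q _ hQS eQ hQ'S eQ'
    rw [h₂] at h3
    have hmemQ' : ((SR x y i : (S : Subgroup G)) : G) ∈
        Q.map (MulAut.conj ((R x ((1 + Kz n) * b) : (S : Subgroup G)) : G)).toMonoidHom := by
      refine ⟨((SR x y i₀ : (S : Subgroup G)) : G), ?_, ?_⟩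
      · have : SR x y i₀ ∈ Q.subgroupOf S := (hQ' _).mpr (QDData.inQ_SR i₀)
        exact Subgroup.mem_subgroupOf.mp this
      · simp only [MulEquiv.toMonoidHom_eq_coe, MonoidHom.coe_coe, MulAut.conj_apply]
        have h4 := h.conj_unit_SR i₀ b
        have e : i₀ + 2 * b = i := by linear_combination -hb
        rw [e] at h4
        have h5 := congrArg Subtype.val h4
        simpa using h5
    have hQ'K : Q.map (MulAut.conj ((R x ((1 + Kz n) * b) : (S : Subgroup G)) : G)).toMonoidHom ≤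
        K := by
      have hle := h.quat_le_M2 _ ((Subgroup.subgroupOfEquivOfLe hQ'S).trans eQ')
      intro q hq
      have h1 : (⟨q, hQ'S hq⟩ : (S : Subgroup G)) ∈ Subgroup.subgroupOf _ (S : Subgroup G) :=
        Subgroup.mem_subgroupOf.mpr hq
      have h2 := hle h1
      rw [← hKS] at h2
      exact Subgroup.mem_subgroupOf.mp h2
    exact quat_le_of_relIndex_two S h _ hQ'S eQ' h3 K hK hQ'K H hH hmemQ'
  rintro a ⟨haS, haK⟩
  have ha : (⟨a, haS⟩ : (S : Subgroup G)) ∈ h.M2 := by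
    rw [← hKS]; exact Subgroup.mem_subgroupOf.mpr haK
  rcases (h.mem_Mc (c := Mz n) (hc := two_mul_Mz h.n1)).mp ha with ⟨i, hi, hai⟩ | ⟨i, hi, hai⟩
  · have hai' : a = ((R x i : (S : Subgroup G)) : G) := congrArg Subtype.val hai
    have e : R x i = SR x y (i + 1) * SR x y (1 - Mz n) := by
      rw [h.SR_mul_SR]
      congr 1
      unfold rho
      linear_combination -hM + hMM
    rw [hai', e, Subgroup.coe_mul]
    exact H.mul_mem (hoddH _ (by linear_combination hi)) (hoddH _ (by linear_combination -hMM))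
  · have hai' : a = ((SR x y i : (S : Subgroup G)) : G) := congrArg Subtype.val hai
    rw [hai']; exact hoddH i hi

theorem sylow_inf_le_of_klein (S : Sylow 2 G) {n : ℕ} {x y : (S : Subgroup G)}
    (h : QDData (S : Subgroup G) n x y) (T : Subgroup G) (hT : IsKleinFour T) (hTS : T ≤ S)
    (h₁ : (Subgroup.centralizer (T : Set G)).relIndex (Subgroup.normalizer (T : Set G)) = 6)
    (K : Subgroup G) (hK : K.index = 2) (hKS : K.subgroupOf (S : Subgroup G) = h.M3)
    (H : Subgroup G) (hH : H.relIndex K = 2) : (S : Subgroup G) ⊓ K ≤ H := by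
  have hevenH : ∀ i : ZMod (2 ^ n), Mz n * i = 0 → ((SR x y i : (S : Subgroup G)) : G) ∈ H := by
    intro i hi
    obtain ⟨i₀, hi₀, hT'⟩ := h.klein_eq (T.subgroupOf S) (isKleinFour_subgroupOf hTS hT)
    obtain ⟨b, hb⟩ := (Mz_mul_eq_zero_iff h.n1 (i - i₀)).mp (by linear_combination hi - hi₀)
    have hT'S : T.map (MulAut.conj ((R x ((1 + Kz n) * b) : (S : Subgroup G)) : G)).toMonoidHom ≤
        (S : Subgroup G) := by
      rintro _ ⟨q, hq, rfl⟩
      simp only [MulEquiv.toMonoidHom_eq_coe, MonoidHom.coe_coe, MulAut.conj_apply]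
      exact (S : Subgroup G).mul_mem ((S : Subgroup G).mul_mem (SetLike.coe_mem _) (hTS hq))
        ((S : Subgroup G).inv_mem (SetLike.coe_mem _))
    have hT'K4 : IsKleinFour
        (T.map (MulAut.conj ((R x ((1 + Kz n) * b) : (S : Subgroup G)) : G)).toMonoidHom) :=
      isKleinFour_of_mulEquiv (T.equivMapOfInjective _ (MulAut.conj _).injective).symm hT
    have h3 := klein_relIndex_eq S h T _ hT hTS hT'K4 hT'S
    rw [h₁] at h3
    have hmemT' : ((SR x y i : (S : Subgroup G)) : G) ∈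
        T.map (MulAut.conj ((R x ((1 + Kz n) * b) : (S : Subgroup G)) : G)).toMonoidHom := by
      refine ⟨((SR x y i₀ : (S : Subgroup G)) : G), ?_, ?_⟩
      · have : SR x y i₀ ∈ T.subgroupOf S := by
          rw [hT', mem_centralizer_singleton]
        exact Subgroup.mem_subgroupOf.mp this
      · simp only [MulEquiv.toMonoidHom_eq_coe, MonoidHom.coe_coe, MulAut.conj_apply]
        have h4 := h.conj_unit_SR i₀ b
        have e : i₀ + 2 * b = i := by linear_combination -hb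
        rw [e] at h4
        have h5 := congrArg Subtype.val h4
        simpa using h5
    have hT'K : T.map (MulAut.conj ((R x ((1 + Kz n) * b) : (S : Subgroup G)) : G)).toMonoidHom ≤
        K := by
      have hle := h.klein_le_M3 _ (isKleinFour_subgroupOf hT'S hT'K4)
      intro q hq
      have h1 : (⟨q, hT'S hq⟩ : (S : Subgroup G)) ∈ Subgroup.subgroupOf _ (S : Subgroup G) :=
        Subgroup.mem_subgroupOf.mpr hq
      have h2 := hle h1
      rw [← hKS] at h2
      exact Subgroup.mem_subgroupOf.mp h2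
    exact klein_le_of_relIndex_two _ hT'K4 h3 K hK hT'K H hH hmemT'
  rintro a ⟨haS, haK⟩
  have ha : (⟨a, haS⟩ : (S : Subgroup G)) ∈ h.M3 := by
    rw [← hKS]; exact Subgroup.mem_subgroupOf.mpr haK
  rcases (h.mem_Mc (c := 0) (hc := mul_zero _)).mp ha with ⟨i, hi, hai⟩ | ⟨i, hi, hai⟩
  · have hai' : a = ((R x i : (S : Subgroup G)) : G) := congrArg Subtype.val hai
    have e : R x i = SR x y i * SR x y (0 : ZMod (2 ^ n)) := by
      rw [h.SR_mul_SR, mul_zero, add_zero]
    rw [hai', e, Subgroup.coe_mul]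
    exact H.mul_mem (hevenH _ hi) (hevenH _ (mul_zero _))
  · have hai' : a = ((SR x y i : (S : Subgroup G)) : G) := congrArg Subtype.val hai
    rw [hai']; exact hevenH i hi

theorem main_two_six (S : Sylow 2 G) (hS : Cfsg.IsQuasiDihedral (S : Subgroup G))
    (T : Subgroup G) (hT : IsKleinFour T) (hTS : T ≤ S)
    (Q : Subgroup G) (hQS : Q ≤ S) (eQ : Q ≃* QuaternionGroup 2)
    (h₁ : (Subgroup.centralizer (T : Set G)).relIndex (Subgroup.normalizer (T : Set G)) = 2)
    (h₂ : (Q ⊔ Subgroup.centralizer (Q : Set G)).relIndex (Subgroup.normalizer (Q : Set G)) = 6) :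
    (∃ K : Subgroup G, K.Normal ∧ K.index = 2 ∧
      (∀ P : Sylow 2 ↥K, ∃ m : ℕ, 1 ≤ m ∧
        Nonempty ((P : Subgroup ↥K) ≃* QuaternionGroup (2 ^ m))) ∧
      (∀ H : Subgroup ↥K, H.index ≠ 2)) ∧
    Cfsg.IsWeaklyClosed ((Subgroup.center (S : Subgroup G)).map (S : Subgroup G).subtype)
      (S : Subgroup G) ∧
    Nat.card {C : ConjClasses G // ∃ t : G, orderOf t = 2 ∧ ConjClasses.mk t = C} = 2 ∧
    Nat.card {C : ConjClasses G // ∃ t : G, orderOf t = 4 ∧ ConjClasses.mk t = C} = 1 := by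
  obtain ⟨n, x, y, h⟩ := exists_qdData hS
  have hnc := not_isConj_zG_yG S h T hT hTS h₁
  obtain ⟨g₂, j₂, -, -, hj₂, hg₂⟩ := exists_fused_c S h Q hQS eQ h₂
  obtain ⟨K, hK⟩ := exists_index_two_of_not_fused_z S h hnc
  have hKn : K.Normal := Subgroup.normal_of_index_eq_two hK
  obtain ⟨j', hj', hj'K⟩ := odd_mem_of_fused S h K hK hj₂ hg₂
  have hKS := subgroupOf_eq_M2 S h K hK hj' hj'K
  refine ⟨⟨K, hKn, hK, ?_, ?_⟩, ?_, ?_, ?_⟩
  · intro P
    obtain ⟨e1⟩ := IndexTwo.sylow_equiv S K P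
    obtain ⟨e2⟩ := h.M2_quaternion
    exact ⟨n - 2, by have := h.hn; omega, ⟨e1.trans ((MulEquiv.subgroupCongr hKS).trans e2)⟩⟩
  · exact IndexTwo.no_index_two_of S K
      (fun H _ hH => sylow_inf_le_of_quat S h Q hQS eQ h₂ K hK hKS H hH)
  · refine ⟨Subgroup.map_subtype_le _, ?_⟩
    intro g hg
    rw [h.center_eq, MonoidHom.map_zpowers] at hg ⊢
    rw [MonoidHom.map_zpowers] at hg ⊢
    have h1 : g * ((R x (Mz n) : (S : Subgroup G)) : G) * g⁻¹ ∈ (S : Subgroup G) :=
      hg (Subgroup.mem_zpowers _)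
    have h2 := z_fixed_of_klein_two S h T hT hTS h₁ g h1
    have e : (MulAut.conj g).toMonoidHom ((S : Subgroup G).subtype (R x (Mz n))) =
        (S : Subgroup G).subtype (R x (Mz n)) := h2
    rw [e]
  · exact card_classes_eq_two 2 _ _ (orderOf_zG S h) (orderOf_yG S h) hnc (involution_isConj S h)
  · apply card_classes_eq_one 4 _ (orderOf_cG S h)
    intro t ht
    rcases order4_isConj S h t ht with h1 | h1
    · exact h1
    · exact (isConj_cG_vG_of_fused S h hj₂ hg₂).trans h1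

theorem main_six_two (S : Sylow 2 G) (hS : Cfsg.IsQuasiDihedral (S : Subgroup G))
    (T : Subgroup G) (hT : IsKleinFour T) (hTS : T ≤ S)
    (Q : Subgroup G) (hQS : Q ≤ S) (eQ : Q ≃* QuaternionGroup 2)
    (h₁ : (Subgroup.centralizer (T : Set G)).relIndex (Subgroup.normalizer (T : Set G)) = 6)
    (h₂ : (Q ⊔ Subgroup.centralizer (Q : Set G)).relIndex (Subgroup.normalizer (Q : Set G)) = 2) :
    (∃ K : Subgroup G, K.Normal ∧ K.index = 2 ∧
      (∀ P : Sylow 2 ↥K, ∃ m : ℕ, Nonempty ((P : Subgroup ↥K) ≃* DihedralGroup m)) ∧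
      (∀ H : Subgroup ↥K, H.index ≠ 2)) ∧
    Nat.card {C : ConjClasses G // ∃ t : G, orderOf t = 2 ∧ ConjClasses.mk t = C} = 1 ∧
    Nat.card {C : ConjClasses G // ∃ t : G, orderOf t = 4 ∧ ConjClasses.mk t = C} = 2 := by
  obtain ⟨n, x, y, h⟩ := exists_qdData hS
  have hnc := not_isConj_cG_vG S h Q hQS eQ h₂
  obtain ⟨g₁, j₁, -, -, hj₁, hg₁⟩ := exists_fused_z S h T hT hTS h₁
  obtain ⟨K, hK⟩ := exists_index_two_of_not_fused_c S h hnc
  have hKn : K.Normal := Subgroup.normal_of_index_eq_two hK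
  obtain ⟨j', hj', hj'K⟩ := even_mem_of_fused S h K hK hj₁ hg₁
  have hKS := subgroupOf_eq_M3 S h K hK hj' hj'K
  refine ⟨⟨K, hKn, hK, ?_, ?_⟩, ?_, ?_⟩
  · intro P
    obtain ⟨e1⟩ := IndexTwo.sylow_equiv S K P
    obtain ⟨e2⟩ := h.M3_eq_closure.2
    exact ⟨2 ^ (n - 1), ⟨e1.trans ((MulEquiv.subgroupCongr hKS).trans e2)⟩⟩
  · exact IndexTwo.no_index_two_of S K
      (fun H _ hH => sylow_inf_le_of_klein S h T hT hTS h₁ K hK hKS H hH)
  · apply card_classes_eq_one 2 _ (orderOf_zG S h)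
    intro t ht
    rcases involution_isConj S h t ht with h1 | h1
    · exact h1
    · exact (isConj_zG_yG_of_fused S h hj₁ hg₁).trans h1
  · exact card_classes_eq_two 4 _ _ (orderOf_cG S h) (orderOf_vG S h) hnc (order4_isConj S h)

end Cfsg.Agent.Lib.Helper9.QD
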