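import Mathlib
import Cfsg.Agent.Lib.Helper9.QD.Quat
import Cfsg.Agent.Lib.Helper9.QD.Klein
import Cfsg.Agent.Lib.Helper9.Wr.Klein
import Cfsg.Agent.Lib.Helper10.UniqueOrderP

/-!
# Existence of four-subgroups and quaternion subgroups in a quasi-dihedral group
-/

set_option autoImplicit false

namespace Cfsg.Agent.Lib.Helper9.QD

variable {S : Type*} [Group S] {n : ℕ} {x y : S}

namespace QDData

variable (h : QDData S n x y)
include h

theorem four_mul_Mz : 4 * Mz n = 0 := by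
  have hM := two_mul_Mz (n := n) h.n1
  linear_combination 2 * hM

/-- a four-subgroup -/
theorem isKleinFour_centralizer_y :
    IsKleinFour (Subgroup.centralizer ({SR x y (0 : ZMod (2 ^ n))} : Set S)) := by
  have hM := two_mul_Mz (n := n) h.n1
  have hM0 := Mz_ne_zero (n := n) h.n1
  apply Cfsg.Agent.Lib.Helper9.Wr.isKleinFour_of_mem_iff _ (R x (Mz n)) (SR x y 0) (SR x y (0 + Mz n))
    ?_ ?_ ?_ ?_ ?_ ?_ ?_ ?_ ?_ (fun g => h.mem_centralizer_SR 0 g)
  · rw [Ne, h.R_eq_one]; exact hM0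
  · exact h.SR_ne_one _
  · exact h.SR_ne_one _
  · exact h.R_ne_SR _ _
  · exact h.R_ne_SR _ _
  · rw [Ne, h.SR_inj]; intro h0; exact hM0 (by linear_combination -h0)
  · rw [← h.R_add, h.R_eq_one]; linear_combination hM
  · rw [h.SR_mul_self, mul_zero, R_zero]
  · rw [h.SR_mul_self, zero_add, Mz_mul_Mz h.n2, R_zero]

/-- the central involution lies in every four-subgroup -/
theorem zeta_mem_of_klein [Finite S] (T : Subgroup S) (hT : IsKleinFour T) : R x (Mz n) ∈ T := by
  obtain ⟨i, -, rfl⟩ := h.klein_eq T hT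
  rw [h.mem_centralizer_SR]
  exact Or.inr (Or.inl rfl)

/-- the quaternion subgroup `⟨R K, SR 1⟩` -/
def Q1 (h : QDData S n x y) : Subgroup S where
  carrier := {g | InQ x y (1 : ZMod (2 ^ n)) g}
  one_mem' := Or.inl ⟨0, mul_zero _, R_zero.symm⟩
  mul_mem' := by
    have h4 := h.four_mul_Mz
    rintro _ _ (⟨d, hd, rfl⟩ | ⟨d, hd, rfl⟩) (⟨d', hd', rfl⟩ | ⟨d', hd', rfl⟩)
    · exact Or.inl ⟨d + d', by linear_combination hd + hd', (h.R_add d d').symm⟩
    · refine Or.inr ⟨d + d', by linear_combination hd + hd', ?_⟩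
      rw [h.R_mul_SR]; congr 1; ring
    · refine Or.inr ⟨d + rho n * d', by linear_combination hd + rho n * hd', ?_⟩
      rw [h.SR_mul_R]; congr 1; ring
    · refine Or.inl ⟨(1 + d) + rho n * (1 + d'), ?_, h.SR_mul_SR _ _⟩
      have e : (1 + d) + rho n * (1 + d') = Mz n + d + rho n * d' := by
        rw [← one_add_rho (n := n)]; ring
      rw [e]
      linear_combination h4 + hd + rho n * hd'
  inv_mem' := by
    have h4 := h.four_mul_Mz
    rintro _ (⟨d, hd, rfl⟩ | ⟨d, hd, rfl⟩)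
    · exact Or.inl ⟨-d, by linear_combination -hd, (h.R_neg d).symm⟩
    · refine Or.inr ⟨-Mz n - rho n * d, by linear_combination -h4 - rho n * hd, ?_⟩
      rw [h.SR_inv]; congr 1
      rw [← one_add_rho (n := n)]; ring

theorem mem_Q1 {g : S} : g ∈ h.Q1 ↔ InQ x y (1 : ZMod (2 ^ n)) g := Iff.rfl

theorem Q1_quaternion [Finite S] : Nonempty (h.Q1 ≃* QuaternionGroup 2) := by
  have hM := two_mul_Mz (n := n) h.n1
  have hK := two_mul_Kz (n := n) h.n2
  have hMK := Mz_mul_Kz h.hn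
  have ha_mem : R x (Kz n) ∈ h.Q1 := Or.inl ⟨Kz n, h.four_mul_Kz, rfl⟩
  have hx_mem : SR x y (1 : ZMod (2 ^ n)) ∈ h.Q1 := Or.inr ⟨0, mul_zero _, by rw [add_zero]⟩
  have hzp : ∀ (g : h.Q1) (d : ZMod (2 ^ n)), 4 * d = 0 → (g : S) = R x d →
      g ∈ Subgroup.zpowers (⟨R x (Kz n), ha_mem⟩ : h.Q1) := by
    intro g d hd hg
    have h1 : (g : S) ∈ Subgroup.zpowers (R x (Kz n)) :=
      (h.mem_zpowers_RK_iff _).mpr ⟨d, hd, hg⟩
    obtain ⟨k, hk⟩ := Subgroup.mem_zpowers_iff.mp h1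
    rw [Subgroup.mem_zpowers_iff]
    exact ⟨k, Subtype.ext (by simpa using hk)⟩
  have hNZ : NeZero 2 := ⟨by norm_num⟩
  refine Cfsg.Agent.Lib.Helper10.nonempty_mulEquiv_quaternionGroup 2
    (⟨R x (Kz n), ha_mem⟩ : h.Q1) ⟨SR x y 1, hx_mem⟩ ?_ ?_ ?_ ?_ ?_
  · rw [Subgroup.orderOf_mk, h.orderOf_RK]
  · apply Subtype.ext
    simp only [Subgroup.coe_mul, Subgroup.coe_inv]
    rw [h.conj_SR_R, ← h.R_neg]
    congr 1
    unfold rho
    linear_combination hMK
  · apply Subtype.ext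
    simp only [Subgroup.coe_pow]
    rw [pow_two, h.SR_mul_self, h.R_pow, mul_one]
    congr 1
    push_cast
    exact hK.symm
  · intro hmem
    obtain ⟨k, hk⟩ := Subgroup.mem_zpowers_iff.mp hmem
    have hk' := congrArg Subtype.val hk
    simp only [Subgroup.coe_zpow] at hk'
    apply h.SR_not_mem 1
    rw [← hk']
    exact Subgroup.zpow_mem _ (h.R_mem _) _
  · intro g
    rcases g.2 with ⟨d, hd, hg⟩ | ⟨d, hd, hg⟩
    · left; exact hzp g d hd hg
    · right
      apply hzp _ (rho n * d) (by linear_combination rho n * hd)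
      simp only [Subgroup.coe_mul, Subgroup.coe_inv]
      rw [hg, h.SR_inv, h.SR_mul_SR]
      congr 1
      ring

/-- the only involution of a quaternion subgroup of order 8 is the central involution -/
theorem involution_of_quat [Finite S] (Q : Subgroup S) (e : Q ≃* QuaternionGroup 2) {q : S}
    (hq : q ∈ Q) (hq2 : orderOf q = 2) : q = R x (Mz n) := by
  have hMK := Mz_mul_Kz h.hn
  have hMM := Mz_mul_Mz (n := n) h.n2
  have hM0 := Mz_ne_zero (n := n) h.n1
  obtain ⟨i, hi, hQ⟩ := h.quat_mem_iff Q e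
  rcases (hQ q).mp hq with ⟨d, hd, rfl⟩ | ⟨d, hd, rfl⟩
  · rw [h.orderOf_R_eq_two.mp hq2]
  · exfalso
    rw [h.orderOf_SR_eq_two] at hq2
    have hMd : Mz n * d = 0 := by
      rcases eq_of_four_mul h.n2 hd with rfl | rfl | rfl | rfl
      · ring
      · exact hMK
      · exact hMM
      · linear_combination hMM + hMK
    apply hM0
    linear_combination -hi + hq2 - hMd

theorem zeta_mem_of_quat [Finite S] (Q : Subgroup S) (e : Q ≃* QuaternionGroup 2) :
    R x (Mz n) ∈ Q := by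
  have hK := two_mul_Kz (n := n) h.n2
  have h1 := (h.quat_contains Q e).1
  have : R x (Mz n) = R x (Kz n) * R x (Kz n) := by
    rw [← h.R_add]; congr 1; linear_combination -hK
  rw [this]
  exact Q.mul_mem h1 h1

end QDData

end Cfsg.Agent.Lib.Helper9.QD
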