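import Mathlib
import Cfsg.Agent.Lib.Helper9.AutIndex
import Cfsg.Agent.Lib.Helper9.QD.Quat2
import Cfsg.Agent.Lib.Helper9.QD.Klein
import Cfsg.Agent.Lib.Helper9.SylowTransport

set_option autoImplicit false
set_option linter.unusedSectionVars false

/-!
# Quasi-dihedral Sylow 2-subgroups: the possible automizer indices
-/

namespace Cfsg.Agent.Lib.Helper9.QD

open Cfsg.Agent.Lib.Helper9 Cfsg.Agent.Lib.Helper9.AutIndex

variable {G : Type*} [Group G] [Finite G]

theorem two_or_six_of_dvd {d : ℕ} (h6 : d ∣ 6) (h2 : 2 ∣ d) : d = 2 ∨ d = 6 := by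
  have hle : d ≤ 6 := Nat.le_of_dvd (by norm_num) h6
  interval_cases d <;> omega

theorem klein_index_cases (S : Sylow 2 G) (hS : Cfsg.IsQuasiDihedral (S : Subgroup G))
    (T : Subgroup G) (hT : IsKleinFour T) (hTS : T ≤ S) :
    (Subgroup.centralizer (T : Set G)).relIndex (Subgroup.normalizer (T : Set G)) = 2 ∨
    (Subgroup.centralizer (T : Set G)).relIndex (Subgroup.normalizer (T : Set G)) = 6 := by
  obtain ⟨n, x, y, h⟩ := exists_qdData hS
  have hd := relIndex_dvd_six_of_kleinFour T hT
  have hK4 : IsKleinFour (T.subgroupOf S) := isKleinFour_subgroupOf hTS hT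
  obtain ⟨a, haN, haT, ha2⟩ := exists_of_relIndex_two (h.klein_relIndex _ hK4)
  have huN : (a : G) ∈ Subgroup.normalizer (T : Set G) := coe_mem_normalizer_of_subgroupOf hTS haN
  have huC : (a : G) ∉ Subgroup.centralizer (T : Set G) := by
    intro hc
    apply haT
    have := coe_mem_centralizer_subgroupOf (S := (S : Subgroup G)) hc
    rwa [h.klein_centralizer _ hK4] at this
  have hTC : T ≤ Subgroup.centralizer (T : Set G) := by
    intro t ht
    rw [Subgroup.mem_centralizer_iff]
    intro s hs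
    have := mul_comm_of_exponent_two hT.exponent_two (⟨s, hs⟩ : T) ⟨t, ht⟩
    exact congrArg Subtype.val this
  have hu2 : (a : G) * (a : G) ∈ Subgroup.centralizer (T : Set G) := by
    apply hTC
    have := Subgroup.mem_subgroupOf.mp ha2
    simpa using this
  exact two_or_six_of_dvd hd
    (two_dvd_relIndex_of_mem _ _ (normal_centralizer_subgroupOf_normalizer T) huN huC hu2)

theorem quat_index_cases (S : Sylow 2 G) (hS : Cfsg.IsQuasiDihedral (S : Subgroup G))
    (Q : Subgroup G) (hQS : Q ≤ S) (eQ : Q ≃* QuaternionGroup 2) :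
    (Q ⊔ Subgroup.centralizer (Q : Set G)).relIndex (Subgroup.normalizer (Q : Set G)) = 2 ∨
    (Q ⊔ Subgroup.centralizer (Q : Set G)).relIndex (Subgroup.normalizer (Q : Set G)) = 6 := by
  obtain ⟨n, x, y, h⟩ := exists_qdData hS
  have hd := relIndex_sup_dvd_six_of_quaternion Q eQ
  obtain ⟨a, haN, haQ, ha2⟩ := exists_of_relIndex_two
    (h.quat_relIndex _ ((Subgroup.subgroupOfEquivOfLe hQS).trans eQ))
  have huN : (a : G) ∈ Subgroup.normalizer (Q : Set G) := coe_mem_normalizer_of_subgroupOf hQS haN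
  have huD : (a : G) ∉ Q ⊔ Subgroup.centralizer (Q : Set G) := by
    intro hmem
    obtain ⟨q, hq, c, hc, hqc⟩ :=
      (mem_sup_of_le_normalizer (Subgroup.centralizer_le_normalizer (Q : Set G))).mp hmem
    have hcS : c ∈ (S : Subgroup G) := by
      have : c = q⁻¹ * (a : G) := by rw [← hqc]; group
      rw [this]
      exact (S : Subgroup G).mul_mem ((S : Subgroup G).inv_mem (hQS hq)) a.2
    have hc' : (⟨c, hcS⟩ : (S : Subgroup G)) ∈
        Subgroup.centralizer ((Q.subgroupOf S : Subgroup (S : Subgroup G)) : Set (S : Subgroup G)) :=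
      coe_mem_centralizer_subgroupOf (a := ⟨c, hcS⟩) hc
    rw [h.quat_centralizer _ ((Subgroup.subgroupOfEquivOfLe hQS).trans eQ)] at hc'
    have hcQ : c ∈ Q := by
      have := Subgroup.map_subtype_le _ hc'
      exact Subgroup.mem_subgroupOf.mp this
    apply haQ
    rw [Subgroup.mem_subgroupOf, ← hqc]
    exact Q.mul_mem hq hcQ
  have hu2 : (a : G) * (a : G) ∈ Q ⊔ Subgroup.centralizer (Q : Set G) := by
    apply Subgroup.mem_sup_left
    have := Subgroup.mem_subgroupOf.mp ha2
    simpa using this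
  exact two_or_six_of_dvd hd
    (two_dvd_relIndex_of_mem _ _ (normal_sup_centralizer_subgroupOf_normalizer Q) huN huD hu2)

end Cfsg.Agent.Lib.Helper9.QD
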