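import Mathlib
import Cfsg.Agent.Lib.Helper9.CentInv
import Cfsg.Agent.Lib.Helper9.QD.Exists
import Cfsg.Agent.Lib.Helper9.QD.Case26c
import Cfsg.Agent.Lib.Helper9.QD.Case66
import Cfsg.Agent.Lib.Helper9.QD.Indices
import Cfsg.Agent.Lib.Helper9.QD.Frat
import Cfsg.Agent.Lib.Helper9.Wr.Local1

/-!
# Quasi-dihedral Sylow 2-subgroups: centralizers of involutions in groups without subgroups of
index two
-/

set_option autoImplicit false
set_option linter.unusedSectionVars false

namespace Cfsg.Agent.Lib.Helper9.QD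

open Cfsg.Agent.Lib.Helper9.CentInv
open Cfsg.Agent.Lib.Helper9.Wr (up up_le coe_mem_up exists_of_mem_up)
open Cfsg.Agent.Lib.Helper9 (isKleinFour_of_mulEquiv)

variable {G : Type*} [Group G] [Finite G] (S : Sylow 2 G) {n : ℕ} {x y : (S : Subgroup G)}
  (h : QDData (S : Subgroup G) n x y)
include h

local notation:max "↟" X:max => up (S : Subgroup G) X

theorem isKleinFour_TG :
    IsKleinFour ↟(Subgroup.centralizer ({SR x y (0 : ZMod (2 ^ n))} : Set (S : Subgroup G))) :=
  isKleinFour_of_mulEquiv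
    (Subgroup.equivMapOfInjective _ _ (S : Subgroup G).subtype_injective).symm
    h.isKleinFour_centralizer_y

theorem nonempty_equiv_QG : Nonempty (↟h.Q1 ≃* QuaternionGroup 2) := by
  obtain ⟨e⟩ := h.Q1_quaternion
  exact ⟨(Subgroup.equivMapOfInjective _ _ (S : Subgroup G).subtype_injective).symm.trans e⟩

/-- the central involution lies in every four-subgroup of `S` -/
theorem zetaG_mem_of_klein (T : Subgroup G) (hT : IsKleinFour T) (hTS : T ≤ S) :
    ((R x (Mz n) : (S : Subgroup G)) : G) ∈ T := by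
  have := h.zeta_mem_of_klein (T.subgroupOf S) (Cfsg.Agent.Lib.Helper9.isKleinFour_subgroupOf hTS hT)
  exact Subgroup.mem_subgroupOf.mp this

theorem zetaG_mem_of_quat (Q : Subgroup G) (hQS : Q ≤ S) (eQ : Q ≃* QuaternionGroup 2) :
    ((R x (Mz n) : (S : Subgroup G)) : G) ∈ Q := by
  have := h.zeta_mem_of_quat (Q.subgroupOf S) ((Subgroup.subgroupOfEquivOfLe hQS).trans eQ)
  exact Subgroup.mem_subgroupOf.mp this

/-- elements normalizing a quaternion subgroup of `S` centralize the central involution -/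
theorem conj_zetaG_of_quat (Q : Subgroup G) (hQS : Q ≤ S) (eQ : Q ≃* QuaternionGroup 2) {g : G}
    (hg : g ∈ Subgroup.normalizer (Q : Set G)) :
    g * ((R x (Mz n) : (S : Subgroup G)) : G) * g⁻¹ = ((R x (Mz n) : (S : Subgroup G)) : G) := by
  have h1 := (Subgroup.mem_normalizer_iff.mp hg _).mp (zetaG_mem_of_quat S h Q hQS eQ)
  have h2 : orderOf (⟨_, hQS h1⟩ : (S : Subgroup G)) = 2 := by
    rw [← Subgroup.orderOf_coe]
    simp only
    exact ((MulAut.conj g).orderOf_eq _).trans (orderOf_zG S h)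
  have h3 := h.involution_of_quat (Q.subgroupOf S) ((Subgroup.subgroupOfEquivOfLe hQS).trans eQ)
    (q := ⟨_, hQS h1⟩) (Subgroup.mem_subgroupOf.mpr h1) h2
  exact congrArg Subtype.val h3

theorem six_six_of_no_index_two (hS : Cfsg.IsQuasiDihedral (S : Subgroup G))
    (hG : ∀ H : Subgroup G, H.index ≠ 2)
    (T : Subgroup G) (hT : IsKleinFour T) (hTS : T ≤ S)
    (Q : Subgroup G) (hQS : Q ≤ S) (eQ : Q ≃* QuaternionGroup 2) :
    (Subgroup.centralizer (T : Set G)).relIndex (Subgroup.normalizer (T : Set G)) = 6 ∧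
    (Q ⊔ Subgroup.centralizer (Q : Set G)).relIndex (Subgroup.normalizer (Q : Set G)) = 6 := by
  have : Fact (Nat.Prime 2) := ⟨Nat.prime_two⟩
  rcases klein_index_cases S hS T hT hTS with h₁ | h₁ <;>
  rcases quat_index_cases S hS Q hQS eQ with h₂ | h₂
  · exfalso
    obtain ⟨⟨P, N, hN, hc⟩, -⟩ := main_two_two S hS T hT hTS Q hQS eQ h₁ h₂
    have h1 : N.index = Nat.card P := hc.symm.index_eq_card
    have h2 : Nat.card P = 2 ^ (n + 1) := by
      rw [P.card_eq_multiplicity, ← S.card_eq_multiplicity]; exact h.card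
    obtain ⟨H, hH⟩ := exists_index_two_of_normal N n (by rw [h1, h2])
    exact hG H hH
  · exfalso
    obtain ⟨⟨K, -, hK, -, -⟩, -⟩ := main_two_six S hS T hT hTS Q hQS eQ h₁ h₂
    exact hG K hK
  · exfalso
    obtain ⟨⟨K, -, hK, -, -⟩, -⟩ := main_six_two S hS T hT hTS Q hQS eQ h₁ h₂
    exact hG K hK
  · exact ⟨h₁, h₂⟩

theorem isConj_zeta_of_no_index_two (hS : Cfsg.IsQuasiDihedral (S : Subgroup G))
    (hG : ∀ H : Subgroup G, H.index ≠ 2) (t : G) (ht : orderOf t = 2) :
    IsConj ((R x (Mz n) : (S : Subgroup G)) : G) t := by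
  obtain ⟨eQ⟩ := nonempty_equiv_QG S h
  obtain ⟨h₁, -⟩ := six_six_of_no_index_two S h hS hG _ (isKleinFour_TG S h) (up_le _ _)
    _ (up_le _ _) eQ
  obtain ⟨g₁, j₁, -, -, hj₁, hg₁⟩ := exists_fused_z S h _ (isKleinFour_TG S h) (up_le _ _) h₁
  rcases involution_isConj S h t ht with h1 | h1
  · exact h1
  · exact (isConj_zG_yG_of_fused S h hj₁ hg₁).trans h1

theorem sylow_le_centralizer_zeta :
    (S : Subgroup G) ≤ Subgroup.centralizer
      ({((R x (Mz n) : (S : Subgroup G)) : G)} : Set G) := by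
  intro s hs
  rw [Subgroup.mem_centralizer_iff]
  intro t ht
  rw [Set.mem_singleton_iff] at ht
  subst ht
  have := congrArg Subtype.val (h.z_comm ⟨s, hs⟩)
  simpa using this.symm

omit h in
theorem isWeaklyClosed_bot (P : Subgroup G) : Cfsg.IsWeaklyClosed (⊥ : Subgroup G) P :=
  ⟨bot_le, fun g _ => by rw [Subgroup.map_bot]⟩

/-- the centralizer of the central involution, in a group with no subgroup of index two -/
theorem cent_core (hS : Cfsg.IsQuasiDihedral (S : Subgroup G))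
    (hG : ∀ H : Subgroup G, H.index ≠ 2) :
    ∃ P₀ : Sylow 2 ↥(Subgroup.centralizer
        ({((R x (Mz n) : (S : Subgroup G)) : G)} : Set G)),
      Nat.card P₀ = Nat.card S ∧
      (∃ K : Subgroup ↥(Subgroup.centralizer
          ({((R x (Mz n) : (S : Subgroup G)) : G)} : Set G)),
        K.Normal ∧ (∃ a : ℕ, K.index = 2 ^ a) ∧ (∀ H : Subgroup ↥K, H.index ≠ 2) ∧
        (∀ P : Sylow 2 ↥K, ∃ m : ℕ, 1 ≤ m ∧ Nonempty ((P : Subgroup ↥K) ≃* QuaternionGroup (2 ^ m)))) ∧
      (∀ Z₀ : Subgroup ↥(Subgroup.centralizer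
          ({((R x (Mz n) : (S : Subgroup G)) : G)} : Set G)),
        Z₀ ≤ ((Subgroup.center (P₀ : Subgroup ↥(Subgroup.centralizer
          ({((R x (Mz n) : (S : Subgroup G)) : G)} : Set G)))).map
          (P₀ : Subgroup ↥(Subgroup.centralizer
          ({((R x (Mz n) : (S : Subgroup G)) : G)} : Set G))).subtype) →
        Cfsg.IsWeaklyClosed Z₀ (P₀ : Subgroup ↥(Subgroup.centralizer
          ({((R x (Mz n) : (S : Subgroup G)) : G)} : Set G)))) := by
  have : Fact (Nat.Prime 2) := ⟨Nat.prime_two⟩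
  set ζ : G := ((R x (Mz n) : (S : Subgroup G)) : G) with hζ
  set C : Subgroup G := Subgroup.centralizer ({ζ} : Set G) with hC
  have hSC : (S : Subgroup G) ≤ C := sylow_le_centralizer_zeta S h
  set T : Subgroup G :=
    ↟(Subgroup.centralizer ({SR x y (0 : ZMod (2 ^ n))} : Set (S : Subgroup G))) with hTdef
  have hT : IsKleinFour T := isKleinFour_TG S h
  have hTS : T ≤ S := up_le _ _
  set Q : Subgroup G := ↟h.Q1 with hQdef
  have hQS : Q ≤ S := up_le _ _
  obtain ⟨eQ⟩ := nonempty_equiv_QG S h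
  obtain ⟨h₁G, h₂G⟩ := six_six_of_no_index_two S h hS hG T hT hTS Q hQS eQ
  -- the Sylow subgroup of `C`
  let R' : Sylow 2 ↥C := S.subtype hSC
  have hRcoe : (R' : Subgroup ↥C) = (S : Subgroup G).subgroupOf C := Sylow.coe_subtype S hSC
  have eR : ↥(R' : Subgroup ↥C) ≃* ↥(S : Subgroup G) :=
    (MulEquiv.subgroupCongr hRcoe).trans (Subgroup.subgroupOfEquivOfLe hSC)
  have hcardR : Nat.card R' = Nat.card S := Nat.card_congr eR.toEquiv
  have hR : Cfsg.IsQuasiDihedral (R' : Subgroup ↥C) := isQuasiDihedral_of_mulEquiv eR.symm hS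
  have hTC : T ≤ C := hTS.trans hSC
  have hQC : Q ≤ C := hQS.trans hSC
  have hTR : T.subgroupOf C ≤ (R' : Subgroup ↥C) := by
    rw [hRcoe]
    intro c hc
    exact Subgroup.mem_subgroupOf.mpr (hTS (Subgroup.mem_subgroupOf.mp hc))
  have hQR : Q.subgroupOf C ≤ (R' : Subgroup ↥C) := by
    rw [hRcoe]
    intro c hc
    exact Subgroup.mem_subgroupOf.mpr (hQS (Subgroup.mem_subgroupOf.mp hc))
  have hT' : IsKleinFour (T.subgroupOf C) :=
    isKleinFour_of_mulEquiv (Subgroup.subgroupOfEquivOfLe hTC) hT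
  have eQ' : Q.subgroupOf C ≃* QuaternionGroup 2 := (Subgroup.subgroupOfEquivOfLe hQC).trans eQ
  rcases klein_index_cases R' hR _ hT' hTR with h₁' | h₁'
  swap
  · exfalso
    obtain ⟨g, hgN, hodd, hgC⟩ := exists_odd_not_mem_of_relIndex_six _ _ h₁'
    have hgN' := coe_mem_normalizer_of_subgroupOf C _ hTC hgN
    have hodd' : Odd (orderOf (g : G)) := by rwa [Subgroup.orderOf_coe]
    apply hgC
    apply mem_centralizer_subgroupOf_of_coe C T
    apply Cfsg.Agent.Lib.Helper9.klein_centralizes_of_fix T hT (zetaG_mem_of_klein S h T hT hTS)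
      ?_ hgN' hodd' ?_
    · rw [← hζ, Ne, ← orderOf_eq_one_iff, hζ, orderOf_zG S h]; norm_num
    · have h3 := (Subgroup.mem_centralizer_iff.mp g.2) ζ (Set.mem_singleton _)
      rw [← hζ, ← h3, mul_inv_cancel_right]
  rcases quat_index_cases R' hR _ hQR eQ' with h₂' | h₂'
  · exfalso
    obtain ⟨g, hgN, hodd, hgnot⟩ := exists_odd_not_mem_of_relIndex_six _ _ h₂G
    have hgC : g ∈ C := by
      rw [hC, Subgroup.mem_centralizer_iff]
      intro t ht
      rw [Set.mem_singleton_iff] at ht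
      subst ht
      have := conj_zetaG_of_quat S h Q hQS eQ hgN
      rw [← hζ] at this
      calc ζ * g = (g * ζ * g⁻¹) * g := by rw [this]
        _ = g * ζ := by group
    have hgN' : (⟨g, hgC⟩ : ↥C) ∈ Subgroup.normalizer
        ((Q.subgroupOf C : Subgroup ↥C) : Set ↥C) := mem_normalizer_subgroupOf_of_coe C _ hgN
    have hodd' : Odd (orderOf (⟨g, hgC⟩ : ↥C)) := by
      rw [← Subgroup.orderOf_coe]; exact hodd
    have h3 := Cfsg.Agent.Lib.Helper9.mem_of_odd_of_relIndex_two _ _ h₂' hgN' hodd'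
    exact hgnot (coe_mem_sup_centralizer C _ hQC h3)
  · obtain ⟨⟨K, hKn, hK, hKsyl, hK2⟩, hwc, -⟩ :=
      main_two_six R' hR _ hT' hTR _ hQR eQ' h₁' h₂'
    refine ⟨R', hcardR, ⟨K, hKn, ⟨1, by rw [hK, pow_one]⟩, hK2, hKsyl⟩, ?_⟩
    intro Z₀ hZ₀
    obtain ⟨n', x', y', h'⟩ := exists_qdData hR
    have hcardZ : Nat.card ((Subgroup.center (R' : Subgroup ↥C)).map (R' : Subgroup ↥C).subtype :
        Subgroup ↥C) = 2 := by
      rw [← Nat.card_congr (Subgroup.equivMapOfInjective _ _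
        (R' : Subgroup ↥C).subtype_injective).toEquiv, h'.card_center]
    have hdvd : Nat.card Z₀ ∣ 2 := by
      rw [← hcardZ]; exact Subgroup.card_dvd_of_le hZ₀
    rcases (Nat.dvd_prime Nat.prime_two).mp hdvd with h1 | h2
    · rw [Subgroup.card_eq_one] at h1
      rw [h1]
      exact isWeaklyClosed_bot _
    · have : Z₀ = (Subgroup.center (R' : Subgroup ↥C)).map (R' : Subgroup ↥C).subtype :=
        Subgroup.eq_of_le_of_card_ge hZ₀ (by rw [hcardZ, h2])
      rw [this]
      exact hwc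

omit h in
/-- **Centralizers of involutions**, quasi-dihedral case -/
theorem qd_main (hS : Cfsg.IsQuasiDihedral (S : Subgroup G)) (hG : ∀ H : Subgroup G, H.index ≠ 2)
    (t : G) (ht : orderOf t = 2) :
    ∃ R : Sylow 2 ↥(Subgroup.centralizer ({t} : Set G)),
      Nat.card R = Nat.card S ∧
      (∃ K : Subgroup ↥(Subgroup.centralizer ({t} : Set G)),
        K.Normal ∧ (∃ a : ℕ, K.index = 2 ^ a) ∧ (∀ H : Subgroup ↥K, H.index ≠ 2) ∧
        (∀ P : Sylow 2 ↥K, ∃ m : ℕ, 1 ≤ m ∧ Nonempty ((P : Subgroup ↥K) ≃* QuaternionGroup (2 ^ m)))) ∧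
      (∀ Z₀ : Subgroup ↥(Subgroup.centralizer ({t} : Set G)),
        Z₀ ≤ ((Subgroup.center (R : Subgroup ↥(Subgroup.centralizer ({t} : Set G)))).map
          (R : Subgroup ↥(Subgroup.centralizer ({t} : Set G))).subtype) →
        Cfsg.IsWeaklyClosed Z₀ (R : Subgroup ↥(Subgroup.centralizer ({t} : Set G)))) := by
  obtain ⟨n, x, y, h⟩ := exists_qdData hS
  obtain ⟨g, hg⟩ := isConj_iff.mp (isConj_zeta_of_no_index_two S h hS hG t ht)
  have hS' : Cfsg.IsQuasiDihedral ((g • S : Sylow 2 G) : Subgroup G) :=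
    isQuasiDihedral_of_mulEquiv (sylowSmulEquiv S g) hS
  obtain ⟨n', x', y', h'⟩ := exists_qdData hS'
  have hcard : Nat.card (g • S : Sylow 2 G) = Nat.card S :=
    (Nat.card_congr (sylowSmulEquiv S g).toEquiv).symm
  have hζZ : ((R x (Mz n) : (S : Subgroup G)) : G) ∈
      (Subgroup.center (S : Subgroup G)).map (S : Subgroup G).subtype := by
    refine ⟨R x (Mz n), ?_, rfl⟩
    rw [SetLike.mem_coe, h.center_eq]
    exact Subgroup.mem_zpowers _
  have htZ := conj_mem_center_smul S hζZ g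
  rw [hg] at htZ
  obtain ⟨s, hs, hst⟩ := htZ
  rw [SetLike.mem_coe, h'.center_eq] at hs
  have hs2 : orderOf s = 2 := by
    rw [← Subgroup.orderOf_coe]
    have : ((s : ((g • S : Sylow 2 G) : Subgroup G)) : G) = t := hst
    rw [this, ht]
  have hsζ : s = R x' (Mz n') := by
    obtain ⟨k, hk⟩ := Subgroup.mem_zpowers_iff.mp hs
    have hz2 : (R x' (Mz n')) ^ (2 : ℤ) = 1 := by
      have h0 := pow_orderOf_eq_one (R x' (Mz n'))
      rw [h'.orderOf_R_eq_two.mpr (rfl : Mz n' = Mz n')] at h0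
      rw [← h0]
      exact zpow_natCast _ 2
    rcases Int.emod_two_eq_zero_or_one k with hk0 | hk1
    · exfalso
      have : s = 1 := by
        rw [← hk, ← Int.emod_add_mul_ediv k 2, hk0, zero_add, zpow_mul, hz2, one_zpow]
      rw [this, orderOf_one] at hs2
      omega
    · rw [← hk, ← Int.emod_add_mul_ediv k 2, hk1, zpow_add, zpow_one, zpow_mul, hz2, one_zpow,
        mul_one]
  have htζ : t = ((R x' (Mz n') : ((g • S : Sylow 2 G) : Subgroup G)) : G) := by
    rw [← hsζ, ← hst]; rfl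
  subst htζ
  obtain ⟨R', hR', hK, hZ⟩ := cent_core (g • S : Sylow 2 G) h' hS' hG
  exact ⟨R', hR'.trans hcard, hK, hZ⟩

end Cfsg.Agent.Lib.Helper9.QD
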